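import Groth.Agent.H11Blow.Goodman
import Groth.Agent.H22Alg.ESZInt
import Groth.Agent.H22Alg.VarDim
import Groth.Agent.H8Props.FieldDimScheme

/-!
# The complement of an affine open of a proper variety of dimension at least two is connected
-/

set_option autoImplicit false
set_option linter.style.haveILetI false
set_option backward.isDefEq.respectTransparency.types false

universe u

open CategoryTheory CategoryTheory.Limits AlgebraicGeometry TopologicalSpace
open Groth.Agent.H11Tilde Groth.Agent.H11Ample

namespace Groth.Agent.H11Blow.Goodman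

/-- An affine open of a positive dimensional proper variety has connected complement, in dimension `≥ 2`. -/
theorem isConnected_compl {k : Type u} [Field k] {X : Scheme.{u}} (f : X ⟶ Spec (CommRingCat.of k)) [IsProper f]
    [IsIntegral X] (hdim : (2 : WithBot ℕ∞) ≤ topologicalKrullDim X) (U : X.Opens) (hU : IsAffineOpen U)
    (hUX : U ≠ ⊤) : _root_.IsConnected ((U : Set X)ᶜ) := by
  by_cases hbot : U = ⊥
  · subst hbot
    simp only [TopologicalSpace.Opens.coe_bot, Set.compl_empty]
    exact ⟨⟨genericPoint X, trivial⟩, PreirreducibleSpace.isPreirreducible_univ.isPreconnected⟩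
  obtain ⟨u, hu⟩ : (U : Set X).Nonempty :=
    Set.nonempty_iff_ne_empty.2 fun h => hbot (TopologicalSpace.Opens.ext h)
  obtain ⟨I, hI, X', b, hb, hp, D, L, hD, hsupp, ⟨e⟩, hamp⟩ := exists_blowUp_ample_boundary f U hU
  haveI := hp
  haveI : IsLocallyNoetherian X := LocallyOfFiniteType.isLocallyNoetherian f
  haveI : IsProper b := H17.LocImmBlow.isProper hb
  have hI0 : I ≠ ⊥ := fun h => by
    refine hI ?_ hu
    rw [h, Scheme.IdealSheafData.support_bot]
    trivial
  obtain ⟨hX', hη, -⟩ := S2348.result _ hI0 b hb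
  haveI := hX'
  haveI := isIso_restrict hb U (Set.disjoint_left.2 fun x hx hxU => hI hx hxU)
  have hsurj : Function.Surjective b.base := fun x => by
    have hcl : IsClosed (Set.range b.base) := b.isClosedMap.isClosed_range
    have h1 : genericPoint X ∈ Set.range b.base := ⟨_, hη⟩
    exact ((genericPoint_specializes x).mem_closed hcl h1)
  -- dimensions
  have hdim' : (2 : WithBot ℕ∞) ≤ topologicalKrullDim X' := by
    have hηU : genericPoint X ∈ U := (genericPoint_specializes u).mem_open U.2 hu
    haveI : IsAffine U.toScheme := hU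
    have hU' : IsAffineOpen (b ⁻¹ᵁ U) := IsAffine.of_isIso (b ∣_ U)
    have hη' : genericPoint X' ∈ b ⁻¹ᵁ U := by
      show b (genericPoint X') ∈ U
      rw [show b (genericPoint X') = genericPoint X from hη]; exact hηU
    letI : X.Over (Spec (CommRingCat.of k)) := ⟨f⟩
    letI : X'.Over (Spec (CommRingCat.of k)) := ⟨b ≫ f⟩
    haveI : LocallyOfFiniteType (X ↘ Spec (CommRingCat.of k)) := inferInstanceAs (LocallyOfFiniteType f)
    haveI : LocallyOfFiniteType (X' ↘ Spec (CommRingCat.of k)) := inferInstanceAs (LocallyOfFiniteType (b ≫ f))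
    have hX : topologicalKrullDim X = topologicalKrullDim (U : Set X) := by
      rw [← H22Alg.VarDim.cdim_genericPoint X, H8Props.FieldDim.cdim_eq_inter f _ hU hηU, genericPoint_closure,
        Set.univ_inter]
    have hX2 : topologicalKrullDim X' = topologicalKrullDim (b ⁻¹ᵁ U : Set X') := by
      rw [← H22Alg.VarDim.cdim_genericPoint X', H8Props.FieldDim.cdim_eq_inter (b ≫ f) _ hU' hη',
        genericPoint_closure, Set.univ_inter]
    rw [hX2]
    refine hdim.trans (le_of_eq ?_)
    rw [hX]
    exact (IsHomeomorph.topologicalKrullDim_eq _ (Scheme.homeoOfIso (asIso (b ∣_ U))).isHomeomorph).symm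
  obtain ⟨σ, hσ, hσr⟩ := H12Pic.PicCurve.exists_section_of_cartier D hD L hamp.1 (H10Coh.Tw.commIso _ _ ≪≫ e)
  have hσh : homOfGlobal L (SecTwist.val σ ⊤) = σ := by
    refine Scheme.Modules.hom_ext _ _ fun W => ?_
    ext r
    exact (H06Mod.app_unit σ W r).symm
  haveI : Mono σ := hσh ▸ H22Alg.ESZConn.mono_homOfGlobal (SecTwist.val σ ⊤) hσr
  have hconn := H22Alg.ESZInt.connectedSpace (b ≫ f) hdim' hamp σ
  have hz : PicF2.zeroScheme L σ = D := (H11Bertini.zeroScheme_eq_zeroIdeal hamp.1 σ).trans hσ
  have hr : _root_.IsConnected ((fun x => b x) ⁻¹' ((U : Set X)ᶜ)) := by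
    rw [← hsupp, ← hz, ← Scheme.IdealSheafData.range_subschemeι]
    exact isConnected_range (PicF2.zeroScheme L σ).subschemeι.continuous
  have h2 := hr.image (fun x => b x) b.continuous.continuousOn
  rwa [Set.image_preimage_eq _ hsurj] at h2

end Groth.Agent.H11Blow.Goodman
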