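import Groth.Agent.H11Ample.ToPn

/-!
# Morphisms to projective space given by sections, with the ratios named
-/

set_option autoImplicit false
set_option linter.style.haveILetI false

noncomputable section

universe u

open CategoryTheory CategoryTheory.Limits AlgebraicGeometry Opposite TopologicalSpace CohB1
open Groth.Agent.H11Tilde Groth.Agent.H11Ample

namespace Groth.Agent.H11Blow

variable {n : ℕ} {R : Type u} [CommRing R] {X : Scheme.{u}} {L : X.Modules}

/-- A morphism to projective space with `T_i` going to given sections, with the loci of generation and ratios. -/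
theorem exists_toPn_ratio (q : X ⟶ Spec (CommRingCat.of R)) (hL : PicF.IsInvertible L) (v : Fin (n + 1) → Γ(L, ⊤))
    (hv : ∀ x, ∃ i, x ∈ gen L (v i)) :
    ∃ (r : X ⟶ ProjSpace n R) (_ : r ≫ ProjSpace.toSpec n R = q)
      (_ : Nonempty ((Scheme.Modules.pullback r).obj (Twist.twistProjSpace n R 1) ≅ L)),
      (∀ i, r ⁻¹ᵁ Proj.basicOpen (polyGrading n R) (MvPolynomial.X i) = gen L (v i)) ∧
      ∀ i l, L.presheaf.map (homOfLE (le_top : r ⁻¹ᵁ Proj.basicOpen (polyGrading n R) (MvPolynomial.X i) ≤ ⊤)).op (v l) =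
          r.app _ (ratio (polyGrading n R) (X_mem i) (X_mem l)) • L.presheaf.map
            (homOfLE (le_top : r ⁻¹ᵁ Proj.basicOpen (polyGrading n R) (MvPolynomial.X i) ≤ ⊤)).op (v i) := by
  classical
  let b := Pi.basisFun R (Fin (n + 1))
  let ι : (Fin (n + 1) → R) →ₗ[R] MvPolynomial (Fin (n + 1)) R := b.constr R MvPolynomial.X
  have hιX : ∀ i, ι (b i) = MvPolynomial.X i := fun i => b.constr_basis R _ i
  have hι : ∀ m, ι m ∈ polyGrading n R 1 := fun m => by
    rw [← b.sum_repr m, map_sum]
    refine Submodule.sum_mem _ fun i _ => ?_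
    rw [map_smul, hιX]
    exact Submodule.smul_mem _ _ (X_mem i)
  have hsym := SymmetricAlgebra.IsSymmetricAlgebra.mvPolynomial (R := R) (Fin (n + 1)) b
  let w : (Fin (n + 1) → R) →+ Γ(L, ⊤) :=
    { toFun := fun m => ∑ i, ProjUP.toGlobal q (m i) • v i
      map_zero' := by simp
      map_add' := fun a c => by simp [add_smul, Finset.sum_add_distrib] }
  have hwb : ∀ i, w (b i) = v i := fun i => by
    change ∑ j, ProjUP.toGlobal q ((b i) j) • v j = v i
    simp [b, Pi.single_apply, apply_ite, ite_smul]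
  have hwgen : ProjUP.GeneratedBy L w := fun x => by
    obtain ⟨i, hi⟩ := hv x
    refine eq_top_iff.2 fun m _ => ?_
    obtain ⟨c, hc⟩ := ((mem_gen_iff hL (v i) x).1 hi).2 m
    rw [← hc]
    exact Submodule.smul_mem _ c (Submodule.subset_span ⟨b i, congrArg (L.presheaf.germ ⊤ x trivial).hom (hwb i)⟩)
  obtain ⟨r, hr, τ₀, hτ⟩ := exists_toProj (polyGrading n R) hι hsym q L hL w (fun a m => by
    change ∑ i, ProjUP.toGlobal q ((a • m) i) • v i = ProjUP.toGlobal q a • ∑ i, ProjUP.toGlobal q (m i) • v i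
    rw [Finset.smul_sum]
    exact Finset.sum_congr rfl fun i _ => by rw [Pi.smul_apply, smul_eq_mul, map_mul, mul_smul]) hwgen
  let τ : (Scheme.Modules.pullback r).obj (Twist.twistProjSpace n R 1) ≅ L := τ₀
  have hτ' : ∀ i, τ.hom.app ⊤ (pullTop r (L := Twist.twistProjSpace n R 1) (ProjUP.coord n R i)) = v i := fun i => by
    rw [← hwb i, ← hτ (b i), PnPoints.globalSec_congr (polyGrading n R) (hι (b i)) (X_mem i) (hιX i)]
    rfl
  refine ⟨r, hr, ⟨τ⟩, fun i => ?_, fun i l => ?_⟩
  · rw [← gen_coord, ← hτ' i, gen_iso]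
    have := gen_smul_pullSect r (isInvertible_twist (n := n) (R := R)) (ProjUP.coord n R i)
      (isUnit_one (M := Γ(X, ⊤)))
    rw [one_smul] at this
    exact this.symm
  · let D := Proj.basicOpen (polyGrading n R) (MvPolynomial.X i : MvPolynomial (Fin (n + 1)) R)
    rw [← hτ' i, ← hτ' l, ← app_map_apply, ← app_map_apply]
    have e : ∀ k, ((Scheme.Modules.pullback r).obj (Twist.twistProjSpace n R 1)).presheaf.map
        (homOfLE (le_top : r ⁻¹ᵁ D ≤ ⊤)).op (pullTop r (L := Twist.twistProjSpace n R 1) (ProjUP.coord n R k)) =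
          OmegaSh.pullSect r (Twist.twistProjSpace n R 1) D
            ((Twist.twistProjSpace n R 1).presheaf.map (homOfLE (le_top : D ≤ ⊤)).op (ProjUP.coord n R k)) :=
      fun k => (pullSect_res r (Twist.twistProjSpace n R 1) (le_top : D ≤ ⊤) (ProjUP.coord n R k)).symm
    refine Eq.trans (congrArg (τ.hom.app _) ((e l).trans ?_)) (Scheme.Modules.Hom.app_smul _ _ _)
    refine Eq.trans ?_ (congrArg _ (e i).symm)
    refine Eq.trans (congrArg (OmegaSh.pullSect r (Twist.twistProjSpace n R 1) D)
      (globalSec_eq_ratio_smul (polyGrading n R) (X_mem i) (X_mem l))) ?_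
    exact OmegaSh.pullSect_smul r (Twist.twistProjSpace n R 1) D _ _

end Groth.Agent.H11Blow
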