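import Groth.Agent.H11Blow.ExcAlg
import Groth.Agent.H11Blow.ToPnRatio
import Groth.Agent.H11Strict.BlowChartBase
import Groth.Agent.H11Strict.BlowProj
import Groth.Agent.H11Proj.ProjData
import Groth.Agent.H29Blow.Basic


/-!
# The exceptional divisor of a blow-up of an affine scheme in a quasi-regular sequence
-/

set_option autoImplicit false
set_option linter.style.haveILetI false
set_option linter.unusedSectionVars false
set_option backward.isDefEq.respectTransparency false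

noncomputable section

universe u

open CategoryTheory CategoryTheory.Limits AlgebraicGeometry TopologicalSpace Opposite MvPolynomial
open Groth.Agent.H11Tilde Groth.Agent.H11Ample Groth.Agent.H26Blow Groth.Agent.H11Strict.BlowProj

namespace Groth.Agent.H11Blow

theorem closure_poly {N : ℕ} {S : Type u} [CommRing S] :
    Subring.closure ((CohB1.polyGrading N S 0 : Set (MvPolynomial (Fin (N + 1)) S)) ∪
      (CohB1.polyGrading N S 1 : Set _)) = ⊤ := by
  refine eq_top_iff.2 fun p hp' => ?_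
  clear hp'
  induction p using MvPolynomial.induction_on with
  | C c => exact Subring.subset_closure (Or.inl (MvPolynomial.isHomogeneous_C _ c))
  | add p q hp hq => exact add_mem hp hq
  | mul_X p i hp => exact mul_mem hp (Subring.subset_closure (Or.inr (MvPolynomial.isHomogeneous_X S i)))

theorem fracEval_surjective {A : Type u} [CommRing A] (I : Ideal A) {n : ℕ} (a : Fin n → I)
    (hI : I = Ideal.span (Set.range fun m => (a m : A))) (l : Fin n) :
    Function.Surjective (fracEval I a l) := fun ⟨z, hz⟩ => by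
  suffices h : ∃ P, (fracEval I a l P : Localization.Away (a l : A)) = z by
    obtain ⟨P, hP⟩ := h
    exact ⟨P, Subtype.ext hP⟩
  induction hz using Algebra.adjoin_induction with
  | mem w hw =>
    obtain ⟨x, hx, rfl⟩ := hw
    obtain ⟨c, hc⟩ := Ideal.mem_span_range_iff_exists_fun.1 (hI.le hx)
    refine ⟨∑ m, C (c m) * X m, ?_⟩
    rw [map_sum]
    simp only [fracEval, map_mul, eval₂Hom_C, eval₂Hom_X']
    rw [← frac_sum I (a l) a c ⟨x, hx⟩ hc.symm]
    rfl
  | algebraMap r => exact ⟨C r, by simp [fracEval]⟩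
  | add x y _ _ hx hy =>
    obtain ⟨P, hP⟩ := hx
    obtain ⟨Q, hQ⟩ := hy
    exact ⟨P + Q, by rw [map_add, Subalgebra.coe_add, hP, hQ]⟩
  | mul x y _ _ hx hy =>
    obtain ⟨P, hP⟩ := hx
    obtain ⟨Q, hQ⟩ := hy
    exact ⟨P * Q, by rw [map_mul, Subalgebra.coe_mul, hP, hQ]⟩

/-- A polynomial vanishing on the exceptional divisor becomes zero once the ideal and `X l - 1` are
killed. -/
theorem map_eq_zero_of_fracEval_mem {A : Type u} [CommRing A] (I : Ideal A) {n : ℕ} (a : Fin n → I)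
    (hI : I = Ideal.span (Set.range fun m => (a m : A))) (hq : CAlgX.IsQuasiRegular fun m => (a m : A))
    (l : Fin n) {S : Type u} [CommRing S] (Φ : MvPolynomial (Fin n) A →+* S) (hΦI : ∀ x ∈ I, Φ (C x) = 0)
    (hΦl : Φ (X l) = 1) (Q : MvPolynomial (Fin n) A)
    (h : fracEval I a l Q ∈ Ideal.span {algebraMap A (Alg I (a l)) (a l : A)}) : Φ Q = 0 := by
  classical
  let Q' := ∑ d ∈ Finset.range (Q.totalDegree + 1), homogeneousComponent d Q * X l ^ (Q.totalDegree - d)
  have hQ' : Q'.IsHomogeneous Q.totalDegree := IsHomogeneous.sum _ _ _ fun d hd => by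
    have h' := (homogeneousComponent_isHomogeneous d Q).mul ((isHomogeneous_X A l).pow (Q.totalDegree - d))
    rwa [show d + 1 * (Q.totalDegree - d) = Q.totalDegree by have := Finset.mem_range.1 hd; omega] at h'
  have hone : frac I (a l) (a l) = 1 :=
    (mul_cancel_right_mem_nonZeroDivisors (algebraMap_mem_nonZeroDivisors I (a l))).mp
      ((frac_spec _ (a l) (a l)).trans (one_mul _).symm)
  have heq : ∀ {T : Type u} [CommRing T] (ψ : MvPolynomial (Fin n) A →+* T), ψ (X l) = 1 → ψ Q' = ψ Q :=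
    fun ψ hψ => by
      conv_rhs => rw [← sum_homogeneousComponent Q]
      rw [map_sum, map_sum]
      exact Finset.sum_congr rfl fun d _ => by rw [map_mul, map_pow, hψ, one_pow, mul_one]
  have hc := coeff_mem_of_fracEval_mem I a hI hq l hQ'
    (by rwa [heq (fracEval I a l) ((eval₂Hom_X' _ _ l).trans hone)])
  rw [← heq Φ hΦl, Q'.as_sum, map_sum]
  refine Finset.sum_eq_zero fun d _ => ?_
  rw [monomial_eq, map_mul, hΦI _ (hc d), zero_mul]

/-- The constants on a standard open of projective space. -/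
def const (n : ℕ) (R : Type u) [CommRing R] (l : Fin (n + 1)) :
    R →+* Γ(CohB1.ProjSpace n R, Proj.basicOpen (CohB1.polyGrading n R) (MvPolynomial.X l)) :=
  ((CohB1.ProjSpace.toSpec n R).appLE ⊤ _ le_top).hom.comp (Scheme.ΓSpecIso (CommRingCat.of R)).inv.hom

theorem const_eq (n : ℕ) (R : Type u) [CommRing R] (l : Fin (n + 1)) (x : R) :
    const n R l x = ratio (CohB1.polyGrading n R) (X_mem l) (algebraMap R (CohB1.polyGrading n R 0) x).2 := by
  have hg0 : CohB1.ProjSpace.toSpec n R = Proj.toSpecZero (CohB1.polyGrading n R) ≫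
      Spec.map ((Scheme.ΓSpecIso (CommRingCat.of R)).hom ≫
        CommRingCat.ofHom (algebraMap R (CohB1.polyGrading n R 0))) ≫
      (isAffineOpen_top (Spec (CommRingCat.of R))).fromSpec := by
    simp [CohB1.ProjSpace.toSpec, IsAffineOpen.fromSpec_top, Scheme.isoSpec_Spec, ← Spec.map_comp]
  have h := H11Proj.appLE_basicOpen (CohB1.polyGrading n R) (isAffineOpen_top (Spec (CommRingCat.of R)))
    ((Scheme.ΓSpecIso (CommRingCat.of R)).hom ≫ CommRingCat.ofHom (algebraMap R (CohB1.polyGrading n R 0)))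
    hg0 (X_mem l) le_top ((Scheme.ΓSpecIso (CommRingCat.of R)).inv x)
  refine h.trans ?_
  congr 1
  all_goals simp

/-- The coordinates of a standard open of projective space. -/
def coordHom {A : Type u} [CommRing A] (n : ℕ) {R : Type u} [CommRing R] (π : A →+* R) (l : Fin (n + 1)) :
    MvPolynomial (Fin (n + 1)) A →+*
      Γ(CohB1.ProjSpace n R, Proj.basicOpen (CohB1.polyGrading n R) (MvPolynomial.X l)) :=
  eval₂Hom ((const n R l).comp π) fun m => ratio (CohB1.polyGrading n R) (X_mem l) (X_mem m)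

theorem coordHom_surjective {A : Type u} [CommRing A] (n : ℕ) {R : Type u} [CommRing R] (π : A →+* R)
    (hπ : Function.Surjective π) (l : Fin (n + 1)) : Function.Surjective (coordHom n π l) := by
  rw [← RingHom.range_eq_top, eq_top_iff]
  rw [← H11Proj.closure_ratio_eq_top (CohB1.polyGrading n R)
    (CommRingCat.ofHom (algebraMap R (CohB1.polyGrading n R 0))) (fun m => MvPolynomial.X m) X_mem
    closure_poly (fun y hy => by
      obtain ⟨σ, hσ⟩ := (Submodule.mem_span_range_iff_exists_fun R).1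
        ((MvPolynomial.homogeneousSubmodule_one_eq_span_X (R := R) (σ := Fin (n + 1))).le hy)
      exact ⟨σ, hσ.symm.trans (Finset.sum_congr rfl fun _ _ => Algebra.smul_def _ _)⟩) (X_mem l)]
  refine Subring.closure_le.2 ?_
  rintro _ (⟨x, rfl⟩ | ⟨m, rfl⟩)
  · obtain ⟨x, rfl⟩ := hπ x
    exact ⟨C x, (eval₂Hom_C _ _ x).trans (const_eq n R l _)⟩
  · exact ⟨MvPolynomial.X m, eval₂Hom_X' _ _ m⟩

/-- Bijectivity on a chart, algebraically. -/
theorem bijective_of_chart {A : Type u} [CommRing A] (I : Ideal A) {n : ℕ} (a : Fin n → I)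
    (hI : I = Ideal.span (Set.range fun m => (a m : A))) (hq : CAlgX.IsQuasiRegular fun m => (a m : A))
    (l : Fin n) {S T : Type u} [CommRing S] [CommRing T] (Φ : MvPolynomial (Fin n) A →+* S)
    (hΦ : Function.Surjective Φ) (hΦI : ∀ x ∈ I, Φ (C x) = 0) (hΦl : Φ (X l) = 1)
    (θ : S →+* T) (g : Alg I (a l) →+* T) (hg : Function.Surjective g)
    (hgker : RingHom.ker g ≤ Ideal.span {algebraMap A (Alg I (a l)) (a l : A)})
    (hcomp : θ.comp Φ = g.comp (fracEval I a l)) : Function.Bijective θ := by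
  refine ⟨(injective_iff_map_eq_zero θ).2 fun y hy => ?_, fun w => ?_⟩
  · obtain ⟨Q, rfl⟩ := hΦ y
    rw [← RingHom.comp_apply, hcomp] at hy
    exact map_eq_zero_of_fracEval_mem I a hI hq l Φ hΦI hΦl Q (hgker hy)
  · obtain ⟨Q, rfl⟩ := (hg.comp (fracEval_surjective I a hI l)) w
    exact ⟨Φ Q, DFunLike.congr_fun hcomp Q⟩

theorem appLE_toSpecΓ_map {D : Scheme.{u}} {R : Type u} [CommRing R] (f : R →+* Γ(D, ⊤)) (O : D.Opens) (x : R) :
    (D.toSpecΓ ≫ Spec.map (CommRingCat.ofHom f)).appLE ⊤ O le_top ((Scheme.ΓSpecIso (CommRingCat.of R)).inv x) =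
      D.presheaf.map (homOfLE (le_top : O ≤ ⊤)).op (f x) := by
  have h : (D.toSpecΓ ≫ Spec.map (CommRingCat.ofHom f)).appTop ((Scheme.ΓSpecIso (CommRingCat.of R)).inv x) = f x := by
    rw [Scheme.Hom.comp_appTop, ← CategoryTheory.comp_apply, ← Category.assoc, ← Scheme.ΓSpecIso_inv_naturality,
      Category.assoc, Scheme.toSpecΓ_appTop]
    erw [Iso.inv_hom_id, Category.comp_id]
    rfl
  exact congrArg (D.presheaf.map (homOfLE (le_top : O ≤ ⊤)).op) h

theorem res_sect_eq {X Y : Scheme.{u}} {b : X ⟶ Y} {𝓘 : Y.IdealSheafData} {V : Y.affineOpens}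
    (k : Proj (gr (𝓘.ideal V)) ⟶ X) [IsOpenImmersion k] (hk : k ≫ b = π (𝓘.ideal V) ≫ V.2.fromSpec)
    (a a' : 𝓘.ideal V) (t t' : Γ(O1 b 𝓘, b ⁻¹ᵁ V.1))
    (ht : OmegaSh.idealSect (BlowUp.exceptional b 𝓘) _ t = b.app V.1 (a : Γ(Y, V.1)))
    (ht' : OmegaSh.idealSect (BlowUp.exceptional b 𝓘) _ t' = b.app V.1 (a' : Γ(Y, V.1)))
    (z : Γ(X, cO k a)) (hz : φ k a z = frac (𝓘.ideal V) a a') :
    (O1 b 𝓘).presheaf.map (homOfLE (cO_le k hk a)).op t' =
      z • (O1 b 𝓘).presheaf.map (homOfLE (cO_le k hk a)).op t := by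
  refine H29Blow.idealSect_injective _ (cO k a) ?_
  rw [H29Blow.idealSect_smul, H29Blow.idealSect_res, H29Blow.idealSect_res, ht, ht']
  refine (φ_bijective k a).1 ?_
  show φ k a (b.appLE V.1 (cO k a) (cO_le k hk a) (a' : Γ(Y, V.1))) =
    φ k a (z * b.appLE V.1 (cO k a) (cO_le k hk a) (a : Γ(Y, V.1)))
  rw [map_mul, hz, φ_appLE k hk a, φ_appLE k hk a, frac_spec]

theorem pull_ratio_eq {D X : Scheme.{u}} (j : D ⟶ X) {M : X.Modules} (t t' : Γ(M, ⊤)) (W : X.Opens)
    (z : Γ(X, W))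
    (hz : M.presheaf.map (homOfLE (le_top : W ≤ ⊤)).op t' = z • M.presheaf.map (homOfLE (le_top : W ≤ ⊤)).op t)
    (O' : D.Opens) (hO : j ⁻¹ᵁ W ≤ O') (c : Γ(D, O'))
    (hgen : j ⁻¹ᵁ W ≤ gen ((Scheme.Modules.pullback j).obj M) (pullTop j t))
    (hc : ((Scheme.Modules.pullback j).obj M).presheaf.map (homOfLE (le_top : O' ≤ ⊤)).op (pullTop j t') =
      c • ((Scheme.Modules.pullback j).obj M).presheaf.map (homOfLE (le_top : O' ≤ ⊤)).op (pullTop j t)) :
    D.presheaf.map (homOfLE hO).op c = j.app W z := by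
  have h1 : ((Scheme.Modules.pullback j).obj M).presheaf.map (homOfLE (le_top : j ⁻¹ᵁ W ≤ ⊤)).op (pullTop j t') =
      j.app W z • ((Scheme.Modules.pullback j).obj M).presheaf.map (homOfLE (le_top : j ⁻¹ᵁ W ≤ ⊤)).op (pullTop j t) := by
    rw [pullTop_res j t' W, pullTop_res j t W, hz]
    exact OmegaSh.pullSect_smul j _ W z _
  have h2 := congrArg (((Scheme.Modules.pullback j).obj M).presheaf.map (homOfLE hO).op) hc
  rw [Scheme.Modules.map_smul, H10Coh.mres_mres, H10Coh.mres_mres] at h2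
  have hg := (isGen_gen (L := (Scheme.Modules.pullback j).obj M) (pullTop j t)).res hgen
  rw [H10Coh.mres_mres] at hg
  refine (hg.bijective le_rfl).1 ?_
  simp only [H10Coh.mres_self]
  exact h2.symm.trans h1

variable {X Y : Scheme.{u}} {b : X ⟶ Y} {𝓘 : Y.IdealSheafData} [IsAffine Y]

/-- Over an affine base the generators of the centre give sections of the exceptional ideal whose loci
of generation are the affine charts. -/
theorem exists_gen_sections (hb : BlowUp.IsBlowUp b 𝓘) {n : ℕ} (g : Fin n → Γ(Y, ⊤))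
    (hI : 𝓘.ideal ⟨⊤, isAffineOpen_top Y⟩ = Ideal.span (Set.range g)) :
    ∃ s : Fin n → Γ(O1 b 𝓘, ⊤), (∀ l, IsAffineOpen (gen (O1 b 𝓘) (s l))) ∧
      ∀ x : X, ∃ l, x ∈ gen (O1 b 𝓘) (s l) := by
  classical
  let V : Y.affineOpens := ⟨⊤, isAffineOpen_top Y⟩
  have hgI : ∀ m, g m ∈ 𝓘.ideal V := fun m => hI.ge (Ideal.subset_span ⟨m, rfl⟩)
  let a : Fin n → 𝓘.ideal V := fun m => ⟨g m, hgI m⟩
  obtain ⟨k, hk, hkb, hkr⟩ := exists_proj_chart hb V
  haveI := hk
  choose s hs using fun m => exists_sect b 𝓘 V (g m) (hgI m)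
  have hcc : ∀ x : X, ∃ l, x ∈ cO k (a l) := fun x =>
    exists_mem_cO k a hI (hkr.ge (trivial : x ∈ b ⁻¹ᵁ V.1))
  have hres : ∀ m, Y.presheaf.map (homOfLE (le_refl V.1)).op (g m) = g m := fun m => by simp
  have hgen : ∀ l, gen (O1 b 𝓘) (s l) = cO k (a l) := fun l => by
    have hgenAt : gen (O1 b 𝓘) (s l) ≤ H11Proj.genAt (O1 b 𝓘) (s l) :=
      H11Proj.le_genAt (s l) le_top (isGen_gen (L := O1 b 𝓘) (s l))
    refine le_antisymm (fun x hx => ?_) fun x hx => ?_
    · obtain ⟨m, hm⟩ := hcc x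
      have h := inf_genAt_le k hkb (a m) (U := V) le_rfl (g l) ((hres l).symm ▸ hgI l) (hs l) ⟨hm, hgenAt hx⟩
      have e : (⟨_, (hres l).symm ▸ hgI l⟩ : 𝓘.ideal V) = a l := Subtype.ext (hres l)
      rwa [e] at h
    · obtain ⟨hid, hnzd⟩ := ideal_cO k hkb (a l)
      have e : OmegaSh.idealSect (BlowUp.exceptional b 𝓘) (cO k (a l))
          ((O1 b 𝓘).presheaf.map (homOfLE (le_top : cO k (a l) ≤ ⊤)).op (s l)) =
          b.appLE V.1 (cO k (a l)) (cO_le k hkb (a l)) (g l) := by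
        rw [H29Blow.idealSect_res]
        erw [hs l]
        rfl
      exact mem_gen_of_isGen (isGen_of_span (cO_affine k (a l)) _ (e ▸ hnzd)
        (hid.trans (congrArg (fun t => Ideal.span {t}) e.symm))) hx
  exact ⟨s, fun l => (hgen l).symm ▸ cO_affine k (a l), fun x => by
    obtain ⟨l, hl⟩ := hcc x
    exact ⟨l, (hgen l).ge hl⟩⟩

/-- The exceptional divisor is a projective space over the centre, and the pull back of its ideal is
`O(1)`. -/
theorem exists_iso_exceptional (hb : BlowUp.IsBlowUp b 𝓘) {n : ℕ} (g : Fin (n + 1) → Γ(Y, ⊤))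
    (hI : 𝓘.ideal ⟨⊤, isAffineOpen_top Y⟩ = Ideal.span (Set.range g)) (hq : CAlgX.IsQuasiRegular g) :
    ∃ e : CohB1.ProjSpace n (Γ(Y, ⊤) ⧸ 𝓘.ideal ⟨⊤, isAffineOpen_top Y⟩) ≅
        (BlowUp.exceptional b 𝓘).subscheme,
      Nonempty ((Scheme.Modules.pullback e.hom).obj
          ((Scheme.Modules.pullback (BlowUp.exceptional b 𝓘).subschemeι).obj
            (ClSub.idealMod (BlowUp.exceptional b 𝓘))) ≅
        Twist.twistProjSpace n (Γ(Y, ⊤) ⧸ 𝓘.ideal ⟨⊤, isAffineOpen_top Y⟩) 1) := by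
  classical
  let V : Y.affineOpens := ⟨⊤, isAffineOpen_top Y⟩
  let E := BlowUp.exceptional b 𝓘
  let D := E.subscheme
  let j := E.subschemeι
  let A := Γ(Y, ⊤)
  let I : Ideal A := 𝓘.ideal V
  let R := A ⧸ I
  have hgI : ∀ m, g m ∈ 𝓘.ideal V := fun m => hI.ge (Ideal.subset_span ⟨m, rfl⟩)
  let a : Fin (n + 1) → 𝓘.ideal V := fun m => ⟨g m, hgI m⟩
  obtain ⟨k, hk, hkb, hkr⟩ := exists_proj_chart hb V
  haveI := hk
  choose s hs using fun m => exists_sect b 𝓘 V (g m) (hgI m)
  have hJ : PicF.IsInvertible (ClSub.idealMod E) := H29Blow.isInvertible_of_isEffCartierIdeal _ hb.1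
  let cc : Fin (n + 1) → X.Opens := fun l => cO k (a l)
  have hcc : ∀ x : X, ∃ l, x ∈ cc l := fun x =>
    exists_mem_cO k a hI (hkr.ge (trivial : x ∈ b ⁻¹ᵁ V.1))
  have hgen : ∀ l, gen (ClSub.idealMod E) (s l) = cc l := fun l => by
    have hgenAt : gen (ClSub.idealMod E) (s l) ≤ H11Proj.genAt (O1 b 𝓘) (s l) :=
      H11Proj.le_genAt (s l) le_top (isGen_gen (L := O1 b 𝓘) (s l))
    have hres : ∀ m, Y.presheaf.map (homOfLE (le_refl V.1)).op (g m) = g m := fun m => by simp
    refine le_antisymm (fun x hx => ?_) fun x hx => ?_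
    · obtain ⟨m, hm⟩ := hcc x
      have h := inf_genAt_le k hkb (a m) (U := V) le_rfl (g l) ((hres l).symm ▸ hgI l) (hs l) ⟨hm, hgenAt hx⟩
      have e : (⟨_, (hres l).symm ▸ hgI l⟩ : 𝓘.ideal V) = a l := Subtype.ext (hres l)
      rwa [e] at h
    · obtain ⟨hid, hnzd⟩ := ideal_cO k hkb (a l)
      have e : OmegaSh.idealSect E (cc l) ((O1 b 𝓘).presheaf.map (homOfLE (le_top : cc l ≤ ⊤)).op (s l)) =
          b.appLE V.1 (cc l) (cO_le k hkb (a l)) (g l) := by
        rw [H29Blow.idealSect_res]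
        erw [hs l]
        rfl
      exact mem_gen_of_isGen (isGen_of_span (cO_affine k (a l)) _ (e ▸ hnzd)
        (hid.trans (congrArg (fun t => Ideal.span {t}) e.symm))) hx
  -- the structure map to the centre
  have hker : ∀ x ∈ I, (j ≫ b).app V.1 x = 0 := fun x hx =>
    (j ≫ b).ideal_ker_le V ((Scheme.IdealSheafData.le_map_iff_comap_le (I := E) (J := 𝓘) (f := b)).2 le_rfl V hx)
  let q0 : A →+* Γ(D, ⊤) := ((j ≫ b).app V.1).hom
  let q : D ⟶ Spec (CommRingCat.of R) :=
    D.toSpecΓ ≫ Spec.map (CommRingCat.ofHom (Ideal.Quotient.lift I q0 hker))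
  let L : D.Modules := (Scheme.Modules.pullback j).obj (ClSub.idealMod E)
  have hLi : PicF.IsInvertible L := isInvertible_pullback j hJ
  let v : Fin (n + 1) → Γ(L, ⊤) := fun l => pullTop j (L := ClSub.idealMod E) (s l)
  have hgv : ∀ l, gen L (v l) = j ⁻¹ᵁ cc l := fun l => by
    rw [← hgen l]
    have := gen_smul_pullSect j hJ (s l) (isUnit_one (M := Γ(D, ⊤)))
    rwa [one_smul] at this
  obtain ⟨r, hr, ⟨τ⟩, hrpre, hratio⟩ := exists_toPn_ratio q hLi v fun y => by
    obtain ⟨l, hl⟩ := hcc (j y)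
    exact ⟨l, (hgv l).ge hl⟩
  let U : Fin (n + 1) → (CohB1.ProjSpace n R).Opens := fun l =>
    Proj.basicOpen (CohB1.polyGrading n R) (MvPolynomial.X l)
  have hUaff : ∀ l, IsAffineOpen (U l) := fun l =>
    Proj.isAffineOpen_basicOpen (CohB1.polyGrading n R) _ (X_mem l) one_pos
  have hpre : ∀ l, r ⁻¹ᵁ U l = j ⁻¹ᵁ cc l := fun l => (hrpre l).trans (hgv l)
  have haffine : ∀ l, IsAffineOpen (j ⁻¹ᵁ cc l) := fun l => (cO_affine k (a l)).preimage j
  haveI : IsAffineHom r := isAffineHom_of_forall_exists_isAffineOpen r fun y => by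
    obtain ⟨l, hl⟩ := exists_mem_basicOpen_X y
    exact ⟨U l, hl, hUaff l, by rw [hpre l]; exact haffine l⟩
  have hbij : ∀ l, Function.Bijective (r.appLE (U l) (j ⁻¹ᵁ cc l) (hpre l).ge) := by
    intro l
    let O := j ⁻¹ᵁ cc l
    let φe := RingEquiv.ofBijective _ (φ_bijective k (a l))
    let jO : Γ(X, cc l) →+* Γ(D, O) := (j.app (cc l)).hom
    let Ψ : MvPolynomial (Fin (n + 1)) A →+* Γ(D, O) :=
      jO.comp (φe.symm.toRingHom.comp (fracEval I a l))
    let rO : Γ(CohB1.ProjSpace n R, U l) →+* Γ(D, O) := (r.appLE (U l) O (hpre l).ge).hom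
    let Φ : MvPolynomial (Fin (n + 1)) A →+* Γ(CohB1.ProjSpace n R, U l) :=
      coordHom n (Ideal.Quotient.mk I) l
    have hconst : ∀ x : A, rO (const n R l (Ideal.Quotient.mk I x)) =
        jO (b.appLE V.1 (cc l) (cO_le k hkb (a l)) x) := fun x => by
      show ((CohB1.ProjSpace.toSpec n R).appLE ⊤ (U l) le_top ≫ r.appLE (U l) O (hpre l).ge)
        ((Scheme.ΓSpecIso (CommRingCat.of R)).inv (Ideal.Quotient.mk I x)) = _
      rw [Scheme.Hom.appLE_comp_appLE,
        H11Strict.BlowProj.appLE_congr_hom' hr _ (show O ≤ q ⁻¹ᵁ ⊤ from le_top), appLE_toSpecΓ_map]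
      show _ = (b.appLE V.1 (cc l) (cO_le k hkb (a l)) ≫ j.app (cc l)) x
      rw [Scheme.Hom.app_eq_appLE (f := j), Scheme.Hom.appLE_comp_appLE]
      rfl
    have hΨ : rO.comp Φ = Ψ := by
      refine MvPolynomial.ringHom_ext (fun x => ?_) fun m => ?_
      · show rO (Φ (C x)) = jO (φe.symm (fracEval I a l (C x)))
        rw [show Φ (C x) = const n R l (Ideal.Quotient.mk I x) from eval₂Hom_C _ _ x,
          show fracEval I a l (C x) = algebraMap _ _ x from eval₂Hom_C _ _ x, hconst]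
        refine congrArg jO (φe.injective ?_)
        rw [φe.apply_symm_apply]
        exact φ_appLE k hkb (a l) _ x
      · show rO (Φ (MvPolynomial.X m)) = jO (φe.symm (fracEval I a l (MvPolynomial.X m)))
        rw [show Φ (MvPolynomial.X m) = ratio (CohB1.polyGrading n R) (X_mem l) (X_mem m) from eval₂Hom_X' _ _ m,
          show fracEval I a l (MvPolynomial.X m) = frac I (a l) (a m) from eval₂Hom_X' _ _ m]
        exact pull_ratio_eq j (M := ClSub.idealMod E) (s l) (s m) (cc l) (φe.symm (frac I (a l) (a m)))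
          (res_sect_eq k hkb (a l) (a m) (s l) (s m) (hs l) (hs m) _ (φe.apply_symm_apply _))
          (r ⁻¹ᵁ U l) (hpre l).ge _ (hgv l).ge (hratio l m)
    refine bijective_of_chart I a hI hq l Φ (coordHom_surjective n _ Ideal.Quotient.mk_surjective l)
      (fun x hx => ?_) ?_ rO (jO.comp φe.symm.toRingHom)
      ((E.subschemeι_app_surjective ⟨cc l, cO_affine k (a l)⟩).comp φe.symm.surjective) (fun w hw => ?_)
      (hΨ.trans (RingHom.comp_assoc _ _ _).symm)
    · refine (eval₂Hom_C _ _ x).trans ?_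
      show const n R l (Ideal.Quotient.mk I x) = 0
      rw [Ideal.Quotient.eq_zero_iff_mem.2 hx, map_zero]
    · exact (eval₂Hom_X' _ _ l).trans (ratio_self _ (X_mem l))
    · have hk0 : φe.symm w ∈ E.ideal ⟨cc l, cO_affine k (a l)⟩ := by
        rw [← E.ker_subschemeι_app ⟨cc l, cO_affine k (a l)⟩]
        exact hw
      rw [(ideal_cO k hkb (a l)).1, Ideal.mem_span_singleton'] at hk0
      obtain ⟨c, hc⟩ := hk0
      refine Ideal.mem_span_singleton'.2 ⟨φe c, ?_⟩
      have h := congrArg φe hc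
      rw [map_mul, φe.apply_symm_apply] at h
      rw [← h]
      exact congrArg (φe c * ·) (φ_appLE k hkb (a l) _ _).symm
  haveI : IsIso r := by
    refine (IsZariskiLocalAtTarget.iff_of_iSup_eq_top (P := MorphismProperty.isomorphisms Scheme) U
      (H11Proj.ProjSpace.iSup_basicOpen n R)).2 fun l => ?_
    refine (isIso_morphismRestrict_iff_isIso_app r (hUaff l)).2 ?_
    rw [ConcreteCategory.isIso_iff_bijective]
    have h := hbij l
    replace h : Function.Bijective (D.presheaf.map (homOfLE (hpre l).ge).op ∘ r.app (U l)) := h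
    haveI : IsIso (D.presheaf.map (homOfLE (hpre l).ge).op) := by
      rw [show homOfLE (hpre l).ge = eqToHom (hpre l).symm from Subsingleton.elim _ _]
      infer_instance
    exact (Function.Bijective.of_comp_iff' (ConcreteCategory.bijective_of_isIso _) _).1 h
  refine ⟨(asIso r).symm, ⟨?_⟩⟩
  exact (Scheme.Modules.pullback (inv r)).mapIso τ.symm ≪≫
    (Scheme.Modules.pullbackComp (inv r) r).app _ ≪≫
    (Scheme.Modules.pullbackCongr (IsIso.inv_hom_id r)).app _ ≪≫ (Scheme.Modules.pullbackId _).app _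

end Groth.Agent.H11Blow
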