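import Groth.Agent.H26Blow.Affine
import Groth.Prelude.Def_CAlgX
import Mathlib.RingTheory.MvPolynomial.Homogeneous

/-!
# The exceptional divisor of a blow-up in a quasi-regular sequence, chart by chart
-/

set_option autoImplicit false

universe u

open MvPolynomial Groth.Agent.H26Blow

namespace Groth.Agent.H11Blow

variable {A : Type u} [CommRing A] (I : Ideal A) {n : ℕ} (a : Fin n → I)

/-- Evaluation of a polynomial at the ratios. -/
noncomputable def fracEval (l : Fin n) : MvPolynomial (Fin n) A →+* Alg I (a l) :=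
  eval₂Hom (algebraMap A (Alg I (a l))) fun m => frac I (a l) (a m)

theorem fracEval_mul_pow (l : Fin n) {N : ℕ} {P : MvPolynomial (Fin n) A} (hP : P.IsHomogeneous N) :
    fracEval I a l P * algebraMap A _ (a l : A) ^ N = algebraMap A _ (eval (fun m => (a m : A)) P) := by
  classical
  conv_lhs => rw [P.as_sum]
  conv_rhs => rw [P.as_sum]
  rw [map_sum, map_sum, map_sum, Finset.sum_mul]
  refine Finset.sum_congr rfl fun d hd => ?_
  rw [fracEval, eval₂Hom_monomial, eval_monomial, map_mul, mul_assoc, map_finsuppProd, Finsupp.prod, Finsupp.prod,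
    show algebraMap A (Alg I (a l)) (a l : A) ^ N =
        ∏ m ∈ d.support, algebraMap A (Alg I (a l)) (a l : A) ^ d m by
      rw [Finset.prod_pow_eq_pow_sum]
      exact congrArg _ (hP.degree_eq_sum_deg_support hd),
    ← Finset.prod_mul_distrib]
  refine congrArg _ (Finset.prod_congr rfl fun m _ => ?_)
  rw [← mul_pow, frac_spec, map_pow]

/-- Every element of the chart is a member of a power of the ideal over a power of the generator. -/
theorem exists_pow_mul_eq (b : I) (w : Alg I b) :
    ∃ (M : ℕ) (c : A), c ∈ I ^ M ∧ w * algebraMap A _ (b : A) ^ M = algebraMap A _ c := by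
  obtain ⟨z, rfl⟩ := (chartEquiv I b).surjective w
  obtain ⟨M, x, hx, rfl⟩ := HomogeneousLocalization.Away.mk_surjective (gr I) (T_mem I b) z
  refine ⟨M, _, (mem_reesAlgebra_iff I _).1 x.2 M, Subtype.ext ?_⟩
  show (chartEquiv I b _ : Localization.Away (b : A)) * algebraMap A _ (b : A) ^ M = _
  rw [coe_chartEquiv]
  exact toLoc_mk I b M x hx

/-- A form vanishing on the exceptional divisor has coefficients in the ideal. -/
theorem coeff_mem_of_fracEval_mem (hI : I = Ideal.span (Set.range fun m => (a m : A)))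
    (hq : CAlgX.IsQuasiRegular fun m => (a m : A)) (l : Fin n) {N : ℕ} {P : MvPolynomial (Fin n) A}
    (hP : P.IsHomogeneous N)
    (h : fracEval I a l P ∈ Ideal.span {algebraMap A (Alg I (a l)) (a l : A)}) (e : Fin n →₀ ℕ) :
    P.coeff e ∈ I := by
  classical
  obtain ⟨w, hw⟩ := Ideal.mem_span_singleton'.1 h
  obtain ⟨M, c, hc, hwc⟩ := exists_pow_mul_eq I (a l) w
  have h1 : algebraMap A (Alg I (a l)) (eval (fun m => (a m : A)) P * (a l : A) ^ M) =
      algebraMap A (Alg I (a l)) ((a l : A) ^ (N + 1) * c) := by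
    rw [map_mul, map_mul, ← fracEval_mul_pow I a l hP, ← hw, ← hwc, map_pow, map_pow]
    ring
  obtain ⟨⟨_, s, rfl⟩, hs⟩ := (IsLocalization.eq_iff_exists (Submonoid.powers (a l : A))
    (Localization.Away (a l : A))).1 (congrArg Subtype.val h1)
  have hQ : (P * X l ^ (M + s)).IsHomogeneous (N + (M + s)) := by
    simpa using hP.mul ((isHomogeneous_X A l).pow (M + s))
  have h2 := hq _ _ hQ (by
    rw [← hI, map_mul, map_pow, eval_X, show eval (fun m => (a m : A)) P * (a l : A) ^ (M + s) =
      (a l : A) ^ s * ((a l : A) ^ (N + 1) * c) by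
        rw [← show (a l : A) ^ s * (eval (fun m => (a m : A)) P * (a l : A) ^ M) =
          (a l : A) ^ s * ((a l : A) ^ (N + 1) * c) from hs]
        ring,
      show N + (M + s) + 1 = s + (N + 1 + M) by ring, pow_add I s, pow_add I (N + 1)]
    exact Ideal.mul_mem_mul (Ideal.pow_mem_pow (a l).2 _) (Ideal.mul_mem_mul (Ideal.pow_mem_pow (a l).2 _) hc))
    (e + Finsupp.single l (M + s))
  rw [← hI, X_pow_eq_monomial, coeff_mul_monomial, mul_one] at h2
  exact h2

end Groth.Agent.H11Blow
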