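import Groth.Agent.H11Blow.Exc
import Groth.Agent.H10Coh.AmpleVanishing
import Groth.Agent.H10Coh.Pn.Results
import Groth.Agent.H10Coh.Stab.TwistInt
import Groth.Agent.H11Ample.Tensor
import Groth.Agent.H11Strict.Admissible
import Groth.Agent.H12Pic.CurveFam.ComapIdeal
import Groth.Agent.H26Blow.Proper
import Groth.Agent.H11Sym.InvertibleInverse
import Groth.Agent.H28Int.Core

/-!
# Cohomology of the exceptional twists of a blow-up in a locally quasi-regular ideal
-/

set_option autoImplicit false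
set_option linter.style.haveILetI false
set_option linter.unusedSectionVars false
set_option backward.isDefEq.respectTransparency false

noncomputable section

universe u

open CategoryTheory CategoryTheory.Limits AlgebraicGeometry TopologicalSpace Opposite
open Groth.Agent.H10Coh Groth.Agent.H11Ample Groth.Agent.H11Tilde Groth.Agent.H11Strict.BlowProj

namespace Groth.Agent.H11Blow

theorem isQuasiRegular_map {R S : Type u} [CommRing R] [CommRing S] (φ : R →+* S) (hφ : Function.Bijective φ)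
    {r : ℕ} {f : Fin r → R} (hf : CAlgX.IsQuasiRegular f) : CAlgX.IsQuasiRegular fun i => φ (f i) := by
  intro k P hP he d
  let e := RingEquiv.ofBijective φ hφ
  let P0 := MvPolynomial.map e.symm.toRingHom P
  have hspan : Ideal.span (Set.range fun i => φ (f i)) = (Ideal.span (Set.range f)).map φ := by
    rw [Ideal.map_span, ← Set.range_comp]; rfl
  have hsymm : ∀ J : Ideal R, (J.map φ).map e.symm.toRingHom = J := fun J => by
    rw [Ideal.map_map, show e.symm.toRingHom.comp φ = RingHom.id R from RingHom.ext fun x => e.symm_apply_apply x,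
      Ideal.map_id]
  have hev : MvPolynomial.eval f P0 = e.symm.toRingHom (MvPolynomial.eval (fun i => φ (f i)) P) := by
    rw [MvPolynomial.map_eval, show (⇑e.symm.toRingHom ∘ fun i => φ (f i)) = f from
      funext fun i => e.symm_apply_apply (f i)]
  have h0 := hf k P0 (hP.map _) (by
    rw [hev]
    have := Ideal.mem_map_of_mem e.symm.toRingHom he
    rwa [hspan, ← Ideal.map_pow, hsymm] at this) d
  rw [MvPolynomial.coeff_map] at h0
  rw [hspan]
  have := Ideal.mem_map_of_mem φ h0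
  rwa [show φ (e.symm.toRingHom (P.coeff d)) = P.coeff d from e.apply_symm_apply _] at this

variable {X Y : Scheme.{u}}

theorem nonempty_idealMod_top' :
    Nonempty (ClSub.idealMod (⊤ : X.IdealSheafData) ≅ Coh.structureModule X) := by
  have hT := H29Blow.isEffCartierIdeal_top (X := X)
  obtain ⟨e⟩ := H28Vert.nonempty_idealMod_mul hT hT
  rw [Scheme.IdealSheafData.top_mul] at e
  obtain ⟨N, -, ⟨f₀⟩⟩ := H11Sym.exists_inverse (H29Blow.isInvertible_of_isEffCartierIdeal _ hT)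
  let I := ClSub.idealMod (⊤ : X.IdealSheafData)
  let f : CohB1.tensorMod I N ≅ Coh.structureModule X := H10Coh.Tw.commIso I N ≪≫ f₀
  exact ⟨(H10Coh.Tw.rightUnitIso I).symm ≪≫ PicGrp.tensorModIso (Iso.refl I) f.symm ≪≫
    (H10Coh.Tw.assoc I I N).symm ≪≫ PicGrp.tensorModIso e (Iso.refl N) ≪≫ f⟩

/-- Powers of an invertible ideal as tensor powers. -/
theorem idealMod_pow {E : X.IdealSheafData} (hE : BlowUp.IsEffCartierIdeal E) : ∀ k : ℕ,
    BlowUp.IsEffCartierIdeal (E ^ k) ∧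
      Nonempty (ClSub.idealMod (E ^ k) ≅ CohB1.tensorPow (ClSub.idealMod E) k)
  | 0 => by
    obtain ⟨e⟩ := nonempty_idealMod_top' (X := X)
    rw [pow_zero]
    exact ⟨H29Blow.isEffCartierIdeal_top, ⟨e⟩⟩
  | k + 1 => by
    obtain ⟨hk, ⟨e⟩⟩ := idealMod_pow hE k
    obtain ⟨e₁⟩ := H28Vert.nonempty_idealMod_mul hk hE
    rw [pow_succ]
    exact ⟨H28Vert.isEffCartierIdeal_mul hk hE, ⟨e₁.symm ≪≫ PicGrp.tensorModIso e (Iso.refl _)⟩⟩

/-- A twisted structure sheaf of a closed subscheme. -/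
theorem nonempty_quot_tensor (E : X.IdealSheafData) {M : X.Modules} (hM : PicF.IsInvertible M) :
    Nonempty (CohB1.tensorMod (ClSub.quotMod E) M ≅
      (Coh.push E.subschemeι).obj ((Scheme.Modules.pullback E.subschemeι).obj M)) := by
  haveI : (Coh.structureModule E.subscheme).IsQuasicoherent := H10Coh.isQuasicoherent_unit
  obtain ⟨e⟩ := H10Coh.Tw.nonempty_push_tensor_iso E.subschemeι (Coh.structureModule E.subscheme) hM
  exact ⟨e ≪≫ (Coh.push E.subschemeι).mapIso (H10Coh.Tw.leftUnitIso _)⟩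

/-- The restriction sequence to a divisor, twisted. -/
theorem exists_seq (E : X.IdealSheafData) {M : X.Modules} (hM : PicF.IsInvertible M) :
    ∃ S : ShortComplex X.Modules, S.ShortExact ∧
      Nonempty (S.X₁ ≅ CohB1.tensorMod (ClSub.idealMod E) M) ∧ Nonempty (S.X₂ ≅ M) ∧
      Nonempty (S.X₃ ≅ (Coh.push E.subschemeι).obj ((Scheme.Modules.pullback E.subschemeι).obj M)) := by
  haveI := H10Coh.epi_toSubscheme E
  obtain ⟨e⟩ := nonempty_quot_tensor E hM
  exact ⟨_, H28Int.tensor_shortExact (H10Coh.shortExact_kernel (ClSub.toSubscheme E)) hM, ⟨Iso.refl _⟩,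
    ⟨H10Coh.Tw.leftUnitIso M⟩, ⟨e⟩⟩

/-- A projective space mapped isomorphically onto the part of a closed subscheme over an open. -/
theorem exists_chart_of_comap {X' : Scheme.{u}} (E : X.IdealSheafData) (hE : BlowUp.IsEffCartierIdeal E)
    (f : X' ⟶ X) [IsOpenImmersion f] (E' : X'.IdealSheafData) (hEE : E' = E.comap f)
    (hE' : BlowUp.IsEffCartierIdeal E') {P : Scheme.{u}} (e : P ≅ E'.subscheme) {T : P.Modules}
    (ψ : (Scheme.Modules.pullback e.hom).obj
      ((Scheme.Modules.pullback E'.subschemeι).obj (ClSub.idealMod E')) ≅ T) :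
    ∃ (c : P ⟶ E.subscheme) (_ : IsOpenImmersion c), c.opensRange = E.subschemeι ⁻¹ᵁ f.opensRange ∧
      Nonempty ((Scheme.Modules.pullback c).obj
        ((Scheme.Modules.pullback E.subschemeι).obj (ClSub.idealMod E)) ≅ T) := by
  subst hEE
  obtain ⟨θ⟩ := H12Pic.CurveFam.nonempty_pullback_idealMod_comap f hE hE'
  have h1 : (e.hom ≫ (E.comapIso f).hom ≫ pullback.snd f E.subschemeι) ≫ E.subschemeι =
      e.hom ≫ (E.comap f).subschemeι ≫ f := by
    rw [Category.assoc, Category.assoc, ← pullback.condition, Scheme.IdealSheafData.comapIso_hom_fst_assoc]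
  refine ⟨e.hom ≫ (E.comapIso f).hom ≫ pullback.snd f E.subschemeι, inferInstance, ?_, ⟨?_⟩⟩
  · rw [Scheme.Hom.opensRange_comp_of_isIso, Scheme.Hom.opensRange_comp_of_isIso,
      Scheme.Hom.opensRange_pullbackSnd]
  · exact (Scheme.Modules.pullbackComp _ E.subschemeι).app _ ≪≫ (Scheme.Modules.pullbackCongr h1).app _ ≪≫
      ((Scheme.Modules.pullbackComp e.hom ((E.comap f).subschemeι ≫ f)).app _).symm ≪≫
      (Scheme.Modules.pullback e.hom).mapIso (((Scheme.Modules.pullbackComp (E.comap f).subschemeι f).app _).symm ≪≫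
        (Scheme.Modules.pullback _).mapIso θ) ≪≫ ψ

variable {b : X ⟶ Y} {𝓘 : Y.IdealSheafData}

/-- An affine open over which the centre is cut out by a quasi-regular sequence of `n + 1` functions. -/
def GoodOpen (𝓘 : Y.IdealSheafData) (n : ℕ) (W : Y.Opens) : Prop :=
  ∃ (hW : IsAffineOpen W) (g : Fin (n + 1) → Γ(Y, W)),
    𝓘.ideal ⟨W, hW⟩ = Ideal.span (Set.range g) ∧ CAlgX.IsQuasiRegular g

theorem exceptional_restrict (b : X ⟶ Y) (𝓘 : Y.IdealSheafData) (W : Y.Opens) :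
    BlowUp.exceptional (b ∣_ W) (𝓘.comap W.ι) = (BlowUp.exceptional b 𝓘).comap (b ⁻¹ᵁ W).ι := by
  show (𝓘.comap W.ι).comap (b ∣_ W) = (𝓘.comap b).comap _
  rw [← Scheme.IdealSheafData.comap_comp, ← Scheme.IdealSheafData.comap_comp, morphismRestrict_ι]

theorem ideal_comap_ι {W : Y.Opens} (hW : IsAffineOpen W) {n : ℕ} (g : Fin n → Γ(Y, W))
    (hI : 𝓘.ideal ⟨W, hW⟩ = Ideal.span (Set.range g)) :
    haveI : IsAffine W.toScheme := hW
    (𝓘.comap W.ι).ideal ⟨⊤, isAffineOpen_top _⟩ =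
      Ideal.span (Set.range fun m => W.ι.appLE W ⊤ W.ι_preimage_self.ge (g m)) := by
  haveI : IsAffine W.toScheme := hW
  rw [H29Blow.ideal_comap 𝓘 W.ι ⟨W, hW⟩ ⟨⊤, isAffineOpen_top _⟩ W.ι_preimage_self.ge, hI, Ideal.map_span,
    ← Set.range_comp]
  rfl

/-- The exceptional divisor over a good open. -/
theorem exists_chart (hb : BlowUp.IsBlowUp b 𝓘) {n : ℕ} {W : Y.Opens} (hG : GoodOpen 𝓘 n W) :
    ∃ (R : Type u) (_ : CommRing R) (c : CohB1.ProjSpace n R ⟶ (BlowUp.exceptional b 𝓘).subscheme)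
      (_ : IsOpenImmersion c), c.opensRange = (BlowUp.exceptional b 𝓘).subschemeι ⁻¹ᵁ (b ⁻¹ᵁ W) ∧
      Nonempty ((Scheme.Modules.pullback c).obj
        ((Scheme.Modules.pullback (BlowUp.exceptional b 𝓘).subschemeι).obj
          (ClSub.idealMod (BlowUp.exceptional b 𝓘))) ≅ Twist.twistProjSpace n R 1) := by
  obtain ⟨hW, g, hI, hq⟩ := hG
  haveI : IsAffine W.toScheme := hW
  have hb' := H11Strict.isBlowUp_restrict_opens hb W
  let φ : Γ(Y, W) →+* Γ(W.toScheme, ⊤) := (W.ι.appLE W ⊤ W.ι_preimage_self.ge).hom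
  have hφ : Function.Bijective φ := by
    haveI : IsIso (W.ι.app W) := Scheme.Hom.isIso_app _ _ (by rw [Scheme.Opens.opensRange_ι])
    haveI : IsIso (W.ι.appLE W ⊤ W.ι_preimage_self.ge) := by
      rw [Scheme.Hom.appLE, show homOfLE W.ι_preimage_self.ge = eqToHom W.ι_preimage_self.symm from
        Subsingleton.elim _ _]
      infer_instance
    exact ConcreteCategory.bijective_of_isIso _
  obtain ⟨e, ⟨ψ⟩⟩ := exists_iso_exceptional hb' (fun m => φ (g m)) (ideal_comap_ι hW g hI)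
    (isQuasiRegular_map φ hφ hq)
  obtain ⟨c, hc, hr, hψ⟩ := exists_chart_of_comap (BlowUp.exceptional b 𝓘) hb.1 (b ⁻¹ᵁ W).ι _
    (exceptional_restrict b 𝓘 W) hb'.1 e ψ
  rw [Scheme.Opens.opensRange_ι] at hr
  exact ⟨_, inferInstance, c, hc, hr, hψ⟩

/-- Twists of the exceptional divisor by modules which are `O(d)` on the fibres. -/
theorem subsingleton_exc (hb : BlowUp.IsBlowUp b 𝓘) {n : ℕ} {W : Y.Opens} (hG : GoodOpen 𝓘 n W) {M : X.Modules}
    (hM : PicF.IsInvertible M) (d : ℤ)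
    (hMd : ∀ (R : Type u) [CommRing R] (c : CohB1.ProjSpace n R ⟶ (BlowUp.exceptional b 𝓘).subscheme),
      Nonempty ((Scheme.Modules.pullback c).obj ((Scheme.Modules.pullback (BlowUp.exceptional b 𝓘).subschemeι).obj
        (ClSub.idealMod (BlowUp.exceptional b 𝓘))) ≅ Twist.twistProjSpace n R 1) →
      Nonempty ((Scheme.Modules.pullback c).obj ((Scheme.Modules.pullback (BlowUp.exceptional b 𝓘).subschemeι).obj M) ≅
        Twist.twistProjSpace n R d))
    (p : ℕ) (h₀ : ¬ (p = 0 ∧ 0 ≤ d)) (hn : ¬ (p = n ∧ d ≤ -((n : ℤ) + 1))) :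
    Subsingleton (HnM ((Coh.push (BlowUp.exceptional b 𝓘).subschemeι).obj
      ((Scheme.Modules.pullback (BlowUp.exceptional b 𝓘).subschemeι).obj M)) p (b ⁻¹ᵁ W)) := by
  obtain ⟨R, _, c, hc, hr, hψ⟩ := exists_chart hb hG
  obtain ⟨φ⟩ := hMd R c hψ
  have hP : PicF.IsInvertible ((Scheme.Modules.pullback (BlowUp.exceptional b 𝓘).subschemeι).obj M) :=
    isInvertible_pullback _ hM
  haveI : ((Scheme.Modules.pullback (BlowUp.exceptional b 𝓘).subschemeι).obj M).IsQuasicoherent :=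
    (H11Ample.isCoh_of_isInvertible hP).1
  refine @Equiv.subsingleton _ _ (affineLerayEquiv (BlowUp.exceptional b 𝓘).subschemeι _ p (b ⁻¹ᵁ W)).toEquiv ?_
  refine subsingleton_HnM_image c _ p ⊤ _ ((Scheme.Hom.image_top_eq_opensRange c).trans hr) ?_
  refine Tw.subsingleton_of_iso (φ.symm ≪≫ ((Scheme.Modules.restrictFunctorIsoPullback c).app _).symm) ?_
  haveI : Subsingleton (Coh.HH (CohB1.ProjSpace n R) (Twist.twistProjSpace n R d) p) :=
    Pn.subsingleton_HH_Od (n := n) (R := R) (d := d) p h₀ hn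
  exact (HHEquiv (Twist.twistProjSpace n R d) p).toEquiv.symm.subsingleton

theorem pull_tensorPow (hb : BlowUp.IsBlowUp b 𝓘) {n : ℕ} (k : ℕ) (R : Type u) [CommRing R]
    (c : CohB1.ProjSpace n R ⟶ (BlowUp.exceptional b 𝓘).subscheme)
    (h : Nonempty ((Scheme.Modules.pullback c).obj ((Scheme.Modules.pullback (BlowUp.exceptional b 𝓘).subschemeι).obj
      (ClSub.idealMod (BlowUp.exceptional b 𝓘))) ≅ Twist.twistProjSpace n R 1)) :
    Nonempty ((Scheme.Modules.pullback c).obj ((Scheme.Modules.pullback (BlowUp.exceptional b 𝓘).subschemeι).obj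
      (CohB1.tensorPow (ClSub.idealMod (BlowUp.exceptional b 𝓘)) k)) ≅ Twist.twistProjSpace n R (k : ℤ)) := by
  obtain ⟨ψ⟩ := h
  have hJ := H29Blow.isInvertible_of_isEffCartierIdeal _ hb.1
  obtain ⟨e₁⟩ := exists_iso_pullback_tensorPow (BlowUp.exceptional b 𝓘).subschemeι hJ k
  obtain ⟨e₂⟩ := exists_iso_pullback_tensorPow c (isInvertible_pullback (BlowUp.exceptional b 𝓘).subschemeι hJ) k
  obtain ⟨e₃⟩ := H11Tilde.nonempty_twist_iso_tensorPow (CohB1.polyGrading n R) (fun x => by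
    obtain ⟨i, hi⟩ := exists_mem_basicOpen_X x
    exact ⟨_, X_mem i, hi⟩) k
  exact ⟨(Scheme.Modules.pullback c).mapIso e₁ ≪≫ e₂ ≪≫ Tw.tensorPowIso ψ k ≪≫ e₃.symm⟩

theorem pull_inverse {n : ℕ} {L : X.Modules} (hL : PicF.IsInvertible L) (hb : BlowUp.IsBlowUp b 𝓘)
    (φ : CohB1.tensorMod L (ClSub.idealMod (BlowUp.exceptional b 𝓘)) ≅ Coh.structureModule X) (R : Type u)
    [CommRing R] (c : CohB1.ProjSpace n R ⟶ (BlowUp.exceptional b 𝓘).subscheme)
    (h : Nonempty ((Scheme.Modules.pullback c).obj ((Scheme.Modules.pullback (BlowUp.exceptional b 𝓘).subschemeι).obj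
      (ClSub.idealMod (BlowUp.exceptional b 𝓘))) ≅ Twist.twistProjSpace n R 1)) :
    Nonempty ((Scheme.Modules.pullback c).obj ((Scheme.Modules.pullback (BlowUp.exceptional b 𝓘).subschemeι).obj L) ≅
      Twist.twistProjSpace n R (-1)) := by
  obtain ⟨ψ⟩ := h
  have hJ := H29Blow.isInvertible_of_isEffCartierIdeal _ hb.1
  let j := (BlowUp.exceptional b 𝓘).subschemeι
  obtain ⟨e₁⟩ := exists_iso_pullback_tensor j hL hJ
  obtain ⟨e₂⟩ := exists_iso_pullback_tensor c (isInvertible_pullback j hL) (isInvertible_pullback j hJ)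
  obtain ⟨u₁⟩ := nonempty_pullback_structureModule_iso j
  obtain ⟨u₂⟩ := nonempty_pullback_structureModule_iso c
  let N := (Scheme.Modules.pullback c).obj ((Scheme.Modules.pullback j).obj L)
  have hN : CohB1.tensorMod N (Twist.twistProjSpace n R 1) ≅ Coh.structureModule _ :=
    PicGrp.tensorModIso (Iso.refl N) ψ.symm ≪≫ e₂.symm ≪≫
      (Scheme.Modules.pullback c).mapIso (e₁.symm ≪≫ (Scheme.Modules.pullback j).mapIso φ ≪≫ u₁) ≪≫ u₂
  have hT := H10Coh.Stab.isTwistFamily_projSpace n R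
  obtain ⟨z⟩ := hT.zero
  obtain ⟨s⟩ := hT.add 1 (-1)
  exact ⟨(Tw.rightUnitIso N).symm ≪≫
    PicGrp.tensorModIso (Iso.refl N) (z.symm ≪≫ eqToIso (congrArg (fun a => Twist.twistProjSpace n R a)
      (by norm_num : (0 : ℤ) = 1 + -1)) ≪≫ s.symm) ≪≫
    (Tw.assoc N _ _).symm ≪≫ PicGrp.tensorModIso hN (Iso.refl _) ≪≫ Tw.leftUnitIso _⟩

/-- The powers of the exceptional ideal have no higher cohomology on the exceptional divisor. -/
theorem subsingleton_exc_pow (hb : BlowUp.IsBlowUp b 𝓘) {n : ℕ} {W : Y.Opens} (hG : GoodOpen 𝓘 n W) (k p : ℕ)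
    (hp : 1 ≤ p) :
    Subsingleton (HnM ((Coh.push (BlowUp.exceptional b 𝓘).subschemeι).obj
      ((Scheme.Modules.pullback (BlowUp.exceptional b 𝓘).subschemeι).obj
        (CohB1.tensorPow (ClSub.idealMod (BlowUp.exceptional b 𝓘)) k))) p (b ⁻¹ᵁ W)) :=
  subsingleton_exc hb hG (isInvertible_tensorPow (H29Blow.isInvertible_of_isEffCartierIdeal _ hb.1) k) k
    (fun R _ c h => pull_tensorPow hb k R c h) p (by omega) (by omega)

/-- `O_D(-1)` has no cohomology. -/
theorem subsingleton_exc_inverse (hb : BlowUp.IsBlowUp b 𝓘) {n : ℕ} (hn : 1 ≤ n) {W : Y.Opens}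
    (hG : GoodOpen 𝓘 n W) {L : X.Modules} (hL : PicF.IsInvertible L)
    (φ : CohB1.tensorMod L (ClSub.idealMod (BlowUp.exceptional b 𝓘)) ≅ Coh.structureModule X) (p : ℕ) :
    Subsingleton (HnM ((Coh.push (BlowUp.exceptional b 𝓘).subschemeι).obj
      ((Scheme.Modules.pullback (BlowUp.exceptional b 𝓘).subschemeι).obj L)) p (b ⁻¹ᵁ W)) :=
  subsingleton_exc hb hG hL (-1) (fun R _ c h => pull_inverse hL hb φ R c h) p (by omega) (by omega)

/-- The exceptional ideal is ample over affine opens of a Noetherian base. -/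
theorem isAmple_restrict (hb : BlowUp.IsBlowUp b 𝓘) [IsLocallyNoetherian Y] [IsProper b] {W : Y.Opens}
    (hW : IsAffineOpen W) :
    CohB1.IsAmple ((ClSub.idealMod (BlowUp.exceptional b 𝓘)).restrict (b ⁻¹ᵁ W).ι) := by
  haveI : IsAffine W.toScheme := hW
  have hb' := H11Strict.isBlowUp_restrict_opens hb W
  haveI : IsNoetherianRing Γ(W.toScheme, ⊤) :=
    IsLocallyNoetherian.component_noetherian ⟨⊤, isAffineOpen_top _⟩
  obtain ⟨m, g, hg⟩ := Submodule.fg_iff_exists_fin_generating_family.1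
    (IsNoetherian.noetherian ((𝓘.comap W.ι).ideal ⟨⊤, isAffineOpen_top _⟩))
  obtain ⟨s, hs, hcov⟩ := exists_gen_sections hb' g hg.symm
  have hJ' := H29Blow.isInvertible_of_isEffCartierIdeal _ hb'.1
  haveI : CompactSpace (b ⁻¹ᵁ W).toScheme := QuasiCompact.compactSpace_of_compactSpace (b ∣_ W)
  have hA : CohB1.IsAmple (ClSub.idealMod (BlowUp.exceptional (b ∣_ W) (𝓘.comap W.ι))) := by
    refine ⟨hJ', inferInstance, fun x => ?_⟩
    obtain ⟨l, hl⟩ := hcov x
    let e := (H10Coh.Tw.leftUnitIso (ClSub.idealMod (BlowUp.exceptional (b ∣_ W) (𝓘.comap W.ι)))).symm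
    refine ⟨0, homOfGlobal _ (e.hom.app ⊤ (s l)), ?_⟩
    change x ∈ gen _ (e.hom.app ⊤ (s l)) ∧ IsAffineOpen (gen _ (e.hom.app ⊤ (s l)))
    rw [gen_iso]
    exact ⟨hl, hs l⟩
  obtain ⟨θ⟩ := H12Pic.CurveFam.nonempty_pullback_idealMod_comap (b ⁻¹ᵁ W).ι hb.1
    ((exceptional_restrict b 𝓘 W) ▸ hb'.1)
  exact isAmple_of_iso (eqToIso (congrArg ClSub.idealMod (exceptional_restrict b 𝓘 W)) ≪≫ θ.symm ≪≫
    ((Scheme.Modules.restrictFunctorIsoPullback (b ⁻¹ᵁ W).ι).app _).symm) hA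

/-- The structure sheaf of the blow-up has no higher cohomology over good opens. -/
theorem subsingleton_structure (hb : BlowUp.IsBlowUp b 𝓘) [IsNoetherian Y] [IsProper b] {n : ℕ} {W : Y.Opens}
    (hG : GoodOpen 𝓘 n W) (p : ℕ) (hp : 1 ≤ p) :
    Subsingleton (HnM (Coh.structureModule X) p (b ⁻¹ᵁ W)) := by
  haveI : IsLocallyNoetherian X := LocallyOfFiniteType.isLocallyNoetherian b
  let E := BlowUp.exceptional b 𝓘
  have hJ := H29Blow.isInvertible_of_isEffCartierIdeal _ hb.1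
  obtain ⟨k₀, hk₀⟩ := Tw.exists_vanishing_relAmple b hJ (fun _ hV => isAmple_restrict hb hV) (Coh.structureModule X)
    (H10Coh.isCoh_structureModule' X) hG.choose
  suffices key : ∀ t k : ℕ, k₀ ≤ k + t → ∀ q, 1 ≤ q →
      Subsingleton (HnM (CohB1.tensorPow (ClSub.idealMod E) k) q (b ⁻¹ᵁ W)) from key k₀ 0 (by omega) p hp
  intro t
  induction t with
  | zero => exact fun k hk q hq => Tw.subsingleton_of_iso (Tw.leftUnitIso _) (hk₀ k hk q hq)
  | succ t ih =>
    intro k hk q hq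
    obtain ⟨S, hS, ⟨e₁⟩, ⟨e₂⟩, ⟨e₃⟩⟩ := exists_seq E (isInvertible_tensorPow hJ k)
    have h1 : Subsingleton (HnM S.X₁ q (b ⁻¹ᵁ W)) :=
      Tw.subsingleton_of_iso ((Tw.commIso _ _) ≪≫ e₁.symm) (ih (k + 1) (by omega) q hq)
    have h3 : Subsingleton (HnM S.X₃ q (b ⁻¹ᵁ W)) :=
      Tw.subsingleton_of_iso e₃.symm (subsingleton_exc_pow hb hG k q hq)
    exact Tw.subsingleton_of_iso e₂ (Tw.subsingleton_X₂ (shortExact_sh hS) h1 h3)

end Groth.Agent.H11Blow
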