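import Groth.Agent.H11Blow.Exc
import Groth.Agent.H11Blow.Vanish

/-!
# The exceptional divisor as a projective space over a given copy of the centre
-/

set_option autoImplicit false
set_option linter.style.haveILetI false
set_option linter.unusedSectionVars false
set_option backward.isDefEq.respectTransparency false

noncomputable section

universe u

open CategoryTheory CategoryTheory.Limits AlgebraicGeometry TopologicalSpace Opposite MvPolynomial
open Groth.Agent.H11Tilde Groth.Agent.H11Ample Groth.Agent.H26Blow Groth.Agent.H11Strict.BlowProj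

namespace Groth.Agent.H11Blow

variable {X Y : Scheme.{u}} {b : X ⟶ Y} {𝓘 : Y.IdealSheafData} [IsAffine Y]

/-- The exceptional divisor is a projective space over the centre, and the pull back of its ideal is
`O(1)`. -/
theorem exists_iso_exceptional_of_surjective (hb : BlowUp.IsBlowUp b 𝓘) {n : ℕ} (g : Fin (n + 1) → Γ(Y, ⊤))
    (hI : 𝓘.ideal ⟨⊤, isAffineOpen_top Y⟩ = Ideal.span (Set.range g)) (hq : CAlgX.IsQuasiRegular g)
    {R : Type u} [CommRing R] (p : Γ(Y, ⊤) →+* R) (hp : Function.Surjective p)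
    (hpk : RingHom.ker p = 𝓘.ideal ⟨⊤, isAffineOpen_top Y⟩) :
    ∃ e : CohB1.ProjSpace n R ≅ (BlowUp.exceptional b 𝓘).subscheme,
      e.hom ≫ (BlowUp.exceptional b 𝓘).subschemeι ≫ b =
          CohB1.ProjSpace.toSpec n R ≫ Spec.map (CommRingCat.ofHom p) ≫ Y.isoSpec.inv ∧
      Nonempty ((Scheme.Modules.pullback e.hom).obj
          ((Scheme.Modules.pullback (BlowUp.exceptional b 𝓘).subschemeι).obj
            (ClSub.idealMod (BlowUp.exceptional b 𝓘))) ≅
        Twist.twistProjSpace n R 1) := by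
  classical
  let V : Y.affineOpens := ⟨⊤, isAffineOpen_top Y⟩
  let E := BlowUp.exceptional b 𝓘
  let D := E.subscheme
  let j := E.subschemeι
  let A := Γ(Y, ⊤)
  let I : Ideal A := 𝓘.ideal V
  have hgI : ∀ m, g m ∈ 𝓘.ideal V := fun m => hI.ge (Ideal.subset_span ⟨m, rfl⟩)
  let a : Fin (n + 1) → 𝓘.ideal V := fun m => ⟨g m, hgI m⟩
  obtain ⟨k, hk, hkb, hkr⟩ := exists_proj_chart hb V
  haveI := hk
  choose s hs using fun m => exists_sect b 𝓘 V (g m) (hgI m)
  have hJ : PicF.IsInvertible (ClSub.idealMod E) := H29Blow.isInvertible_of_isEffCartierIdeal _ hb.1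
  let cc : Fin (n + 1) → X.Opens := fun l => cO k (a l)
  have hcc : ∀ x : X, ∃ l, x ∈ cc l := fun x =>
    exists_mem_cO k a hI (hkr.ge (trivial : x ∈ b ⁻¹ᵁ V.1))
  have hgen : ∀ l, gen (ClSub.idealMod E) (s l) = cc l := fun l => by
    have hgenAt : gen (ClSub.idealMod E) (s l) ≤ H11Proj.genAt (O1 b 𝓘) (s l) :=
      H11Proj.le_genAt (s l) le_top (isGen_gen (L := O1 b 𝓘) (s l))
    have hres : ∀ m, Y.presheaf.map (homOfLE (le_refl V.1)).op (g m) = g m := fun m => by simp
    refine le_antisymm (fun x hx => ?_) fun x hx => ?_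
    · obtain ⟨m, hm⟩ := hcc x
      have h := inf_genAt_le k hkb (a m) (U := V) le_rfl (g l) ((hres l).symm ▸ hgI l) (hs l) ⟨hm, hgenAt hx⟩
      have e : (⟨_, (hres l).symm ▸ hgI l⟩ : 𝓘.ideal V) = a l := Subtype.ext (hres l)
      rwa [e] at h
    · obtain ⟨hid, hnzd⟩ := ideal_cO k hkb (a l)
      have e : OmegaSh.idealSect E (cc l) ((O1 b 𝓘).presheaf.map (homOfLE (le_top : cc l ≤ ⊤)).op (s l)) =
          b.appLE V.1 (cc l) (cO_le k hkb (a l)) (g l) := by
        rw [H29Blow.idealSect_res]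
        erw [hs l]
        rfl
      exact mem_gen_of_isGen (isGen_of_span (cO_affine k (a l)) _ (e ▸ hnzd)
        (hid.trans (congrArg (fun t => Ideal.span {t}) e.symm))) hx
  -- the structure map to the centre
  have hker : ∀ x ∈ I, (j ≫ b).app V.1 x = 0 := fun x hx =>
    (j ≫ b).ideal_ker_le V ((Scheme.IdealSheafData.le_map_iff_comap_le (I := E) (J := 𝓘) (f := b)).2 le_rfl V hx)
  let q0 : A →+* Γ(D, ⊤) := ((j ≫ b).app V.1).hom
  let p' : R →+* Γ(D, ⊤) := p.liftOfSurjective hp ⟨q0, fun x hx => hker x (hpk.le hx)⟩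
  have hp' : ∀ x, p' (p x) = q0 x := fun x =>
    p.liftOfRightInverse_comp_apply _ (Function.rightInverse_surjInv hp) ⟨q0, fun x hx => hker x (hpk.le hx)⟩ x
  let q : D ⟶ Spec (CommRingCat.of R) := D.toSpecΓ ≫ Spec.map (CommRingCat.ofHom p')
  let L : D.Modules := (Scheme.Modules.pullback j).obj (ClSub.idealMod E)
  have hLi : PicF.IsInvertible L := isInvertible_pullback j hJ
  let v : Fin (n + 1) → Γ(L, ⊤) := fun l => pullTop j (L := ClSub.idealMod E) (s l)
  have hgv : ∀ l, gen L (v l) = j ⁻¹ᵁ cc l := fun l => by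
    rw [← hgen l]
    have := gen_smul_pullSect j hJ (s l) (isUnit_one (M := Γ(D, ⊤)))
    rwa [one_smul] at this
  obtain ⟨r, hr, ⟨τ⟩, hrpre, hratio⟩ := exists_toPn_ratio q hLi v fun y => by
    obtain ⟨l, hl⟩ := hcc (j y)
    exact ⟨l, (hgv l).ge hl⟩
  let U : Fin (n + 1) → (CohB1.ProjSpace n R).Opens := fun l =>
    Proj.basicOpen (CohB1.polyGrading n R) (MvPolynomial.X l)
  have hUaff : ∀ l, IsAffineOpen (U l) := fun l =>
    Proj.isAffineOpen_basicOpen (CohB1.polyGrading n R) _ (X_mem l) one_pos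
  have hpre : ∀ l, r ⁻¹ᵁ U l = j ⁻¹ᵁ cc l := fun l => (hrpre l).trans (hgv l)
  have haffine : ∀ l, IsAffineOpen (j ⁻¹ᵁ cc l) := fun l => (cO_affine k (a l)).preimage j
  haveI : IsAffineHom r := isAffineHom_of_forall_exists_isAffineOpen r fun y => by
    obtain ⟨l, hl⟩ := exists_mem_basicOpen_X y
    exact ⟨U l, hl, hUaff l, by rw [hpre l]; exact haffine l⟩
  have hbij : ∀ l, Function.Bijective (r.appLE (U l) (j ⁻¹ᵁ cc l) (hpre l).ge) := by
    intro l
    let O := j ⁻¹ᵁ cc l
    let φe := RingEquiv.ofBijective _ (φ_bijective k (a l))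
    let jO : Γ(X, cc l) →+* Γ(D, O) := (j.app (cc l)).hom
    let Ψ : MvPolynomial (Fin (n + 1)) A →+* Γ(D, O) :=
      jO.comp (φe.symm.toRingHom.comp (fracEval I a l))
    let rO : Γ(CohB1.ProjSpace n R, U l) →+* Γ(D, O) := (r.appLE (U l) O (hpre l).ge).hom
    let Φ : MvPolynomial (Fin (n + 1)) A →+* Γ(CohB1.ProjSpace n R, U l) :=
      coordHom n p l
    have hconst : ∀ x : A, rO (const n R l (p x)) =
        jO (b.appLE V.1 (cc l) (cO_le k hkb (a l)) x) := fun x => by
      show ((CohB1.ProjSpace.toSpec n R).appLE ⊤ (U l) le_top ≫ r.appLE (U l) O (hpre l).ge)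
        ((Scheme.ΓSpecIso (CommRingCat.of R)).inv (p x)) = _
      rw [Scheme.Hom.appLE_comp_appLE,
        H11Strict.BlowProj.appLE_congr_hom' hr _ (show O ≤ q ⁻¹ᵁ ⊤ from le_top), appLE_toSpecΓ_map]
      rw [hp']
      show _ = (b.appLE V.1 (cc l) (cO_le k hkb (a l)) ≫ j.app (cc l)) x
      rw [Scheme.Hom.app_eq_appLE (f := j), Scheme.Hom.appLE_comp_appLE]
      rfl
    have hΨ : rO.comp Φ = Ψ := by
      refine MvPolynomial.ringHom_ext (fun x => ?_) fun m => ?_
      · show rO (Φ (C x)) = jO (φe.symm (fracEval I a l (C x)))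
        rw [show Φ (C x) = const n R l (p x) from eval₂Hom_C _ _ x,
          show fracEval I a l (C x) = algebraMap _ _ x from eval₂Hom_C _ _ x, hconst]
        refine congrArg jO (φe.injective ?_)
        rw [φe.apply_symm_apply]
        exact φ_appLE k hkb (a l) _ x
      · show rO (Φ (MvPolynomial.X m)) = jO (φe.symm (fracEval I a l (MvPolynomial.X m)))
        rw [show Φ (MvPolynomial.X m) = ratio (CohB1.polyGrading n R) (X_mem l) (X_mem m) from eval₂Hom_X' _ _ m,
          show fracEval I a l (MvPolynomial.X m) = frac I (a l) (a m) from eval₂Hom_X' _ _ m]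
        exact pull_ratio_eq j (M := ClSub.idealMod E) (s l) (s m) (cc l) (φe.symm (frac I (a l) (a m)))
          (res_sect_eq k hkb (a l) (a m) (s l) (s m) (hs l) (hs m) _ (φe.apply_symm_apply _))
          (r ⁻¹ᵁ U l) (hpre l).ge _ (hgv l).ge (hratio l m)
    refine bijective_of_chart I a hI hq l Φ (coordHom_surjective n _ hp l)
      (fun x hx => ?_) ?_ rO (jO.comp φe.symm.toRingHom)
      ((E.subschemeι_app_surjective ⟨cc l, cO_affine k (a l)⟩).comp φe.symm.surjective) (fun w hw => ?_)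
      (hΨ.trans (RingHom.comp_assoc _ _ _).symm)
    · refine (eval₂Hom_C _ _ x).trans ?_
      show const n R l (p x) = 0
      rw [show p x = 0 from hpk.ge hx, map_zero]
    · exact (eval₂Hom_X' _ _ l).trans (ratio_self _ (X_mem l))
    · have hk0 : φe.symm w ∈ E.ideal ⟨cc l, cO_affine k (a l)⟩ := by
        rw [← E.ker_subschemeι_app ⟨cc l, cO_affine k (a l)⟩]
        exact hw
      rw [(ideal_cO k hkb (a l)).1, Ideal.mem_span_singleton'] at hk0
      obtain ⟨c, hc⟩ := hk0
      refine Ideal.mem_span_singleton'.2 ⟨φe c, ?_⟩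
      have h := congrArg φe hc
      rw [map_mul, φe.apply_symm_apply] at h
      rw [← h]
      exact congrArg (φe c * ·) (φ_appLE k hkb (a l) _ _).symm
  haveI : IsIso r := by
    refine (IsZariskiLocalAtTarget.iff_of_iSup_eq_top (P := MorphismProperty.isomorphisms Scheme) U
      (H11Proj.ProjSpace.iSup_basicOpen n R)).2 fun l => ?_
    refine (isIso_morphismRestrict_iff_isIso_app r (hUaff l)).2 ?_
    rw [ConcreteCategory.isIso_iff_bijective]
    have h := hbij l
    replace h : Function.Bijective (D.presheaf.map (homOfLE (hpre l).ge).op ∘ r.app (U l)) := h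
    haveI : IsIso (D.presheaf.map (homOfLE (hpre l).ge).op) := by
      rw [show homOfLE (hpre l).ge = eqToHom (hpre l).symm from Subsingleton.elim _ _]
      infer_instance
    exact (Function.Bijective.of_comp_iff' (ConcreteCategory.bijective_of_isIso _) _).1 h
  refine ⟨(asIso r).symm, ?_, ⟨?_⟩⟩
  · refine (cancel_epi r).1 ?_
    show r ≫ inv r ≫ j ≫ b = _
    rw [IsIso.hom_inv_id_assoc, reassoc_of% hr]
    show _ = (D.toSpecΓ ≫ Spec.map (CommRingCat.ofHom p')) ≫ _
    rw [Category.assoc, ← Spec.map_comp_assoc,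
      show CommRingCat.ofHom p ≫ CommRingCat.ofHom p' = (j ≫ b).appTop from CommRingCat.hom_ext (RingHom.ext hp'),
      ← Category.assoc, ← Scheme.toSpecΓ_naturality, Category.assoc,
      show Y.toSpecΓ = Y.isoSpec.hom from rfl, Iso.hom_inv_id, Category.comp_id]
  exact (Scheme.Modules.pullback (inv r)).mapIso τ.symm ≪≫
    (Scheme.Modules.pullbackComp (inv r) r).app _ ≪≫
    (Scheme.Modules.pullbackCongr (IsIso.inv_hom_id r)).app _ ≪≫ (Scheme.Modules.pullbackId _).app _



omit [IsAffine Y] in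
/-- Charts of a divisor from charts of its restrictions, with the maps to the ambient scheme. -/
theorem exists_chart_of_comap_over {X' : Scheme.{u}} (E : X.IdealSheafData) (hE : BlowUp.IsEffCartierIdeal E)
    (f : X' ⟶ X) [IsOpenImmersion f] (E' : X'.IdealSheafData) (hEE : E' = E.comap f)
    (hE' : BlowUp.IsEffCartierIdeal E') {P : Scheme.{u}} (e : P ≅ E'.subscheme) {T : P.Modules}
    (ψ : (Scheme.Modules.pullback e.hom).obj
      ((Scheme.Modules.pullback E'.subschemeι).obj (ClSub.idealMod E')) ≅ T) :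
    ∃ (c : P ⟶ E.subscheme) (_ : IsOpenImmersion c), c.opensRange = E.subschemeι ⁻¹ᵁ f.opensRange ∧
      c ≫ E.subschemeι = e.hom ≫ E'.subschemeι ≫ f ∧
      Nonempty ((Scheme.Modules.pullback c).obj
        ((Scheme.Modules.pullback E.subschemeι).obj (ClSub.idealMod E)) ≅ T) := by
  subst hEE
  obtain ⟨θ⟩ := H12Pic.CurveFam.nonempty_pullback_idealMod_comap f hE hE'
  have h1 : (e.hom ≫ (E.comapIso f).hom ≫ pullback.snd f E.subschemeι) ≫ E.subschemeι =
      e.hom ≫ (E.comap f).subschemeι ≫ f := by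
    rw [Category.assoc, Category.assoc, ← pullback.condition, Scheme.IdealSheafData.comapIso_hom_fst_assoc]
  refine ⟨e.hom ≫ (E.comapIso f).hom ≫ pullback.snd f E.subschemeι, inferInstance, ?_, h1, ⟨?_⟩⟩
  · rw [Scheme.Hom.opensRange_comp_of_isIso, Scheme.Hom.opensRange_comp_of_isIso,
      Scheme.Hom.opensRange_pullbackSnd]
  · exact (Scheme.Modules.pullbackComp _ E.subschemeι).app _ ≪≫ (Scheme.Modules.pullbackCongr h1).app _ ≪≫
      ((Scheme.Modules.pullbackComp e.hom ((E.comap f).subschemeι ≫ f)).app _).symm ≪≫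
      (Scheme.Modules.pullback e.hom).mapIso (((Scheme.Modules.pullbackComp (E.comap f).subschemeι f).app _).symm ≪≫
        (Scheme.Modules.pullback _).mapIso θ) ≪≫ ψ

end Groth.Agent.H11Blow
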