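import Groth.Agent.H17.LocImmBlow.Join
import Groth.Agent.H17.Ample.GenAffine
import Groth.Agent.H8YBlow.AffClosure
import Groth.Agent.H8YBlow.Exceptional
import Groth.Agent.H8Props.ProjOpenAmple
import Groth.Agent.H11Ample.RelComp
import Groth.Agent.H11Ample.Extend
import Groth.Agent.H11Ample.Converse
import Groth.Agent.H12Pic.PicCurve.Divisor
import Groth.Agent.H11Sym.InvertibleInverse
import Groth.Agent.H22Alg.ESZInt
import Groth.Agent.H22Alg.ESZConn
import Groth.Agent.H11Bertini.ZeroLocal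
import Groth.Agent.S2348
import Groth.Prelude.Def_ClSub2

/-!
# An open of a proper scheme is affine iff after a blow-up outside it the boundary supports an ample divisor
-/

set_option autoImplicit false
set_option linter.style.haveILetI false
set_option backward.isDefEq.respectTransparency.types false

universe u

open CategoryTheory CategoryTheory.Limits AlgebraicGeometry TopologicalSpace Opposite
open Groth.Agent.H11Tilde Groth.Agent.H11Ample

namespace Groth.Agent.H11Blow.Goodman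

variable {X : Scheme.{u}}

/-- A blow-up is an isomorphism over an open missing the centre. -/
theorem isIso_restrict {X' : Scheme.{u}} {b : X' ⟶ X} {I : X.IdealSheafData} (hb : BlowUp.IsBlowUp b I)
    (U : X.Opens) (hU : Disjoint (I.support : Set X) (U : Set X)) : IsIso (b ∣_ U) := by
  obtain ⟨e, he, -⟩ := H17.LocImmBlow.exists_lift hb U.ι fun z h => Set.disjoint_left.1 hU h z.2
  have hr : Set.range e ⊆ ((b ⁻¹ᵁ U).ι.opensRange : Set X') := by
    rintro _ ⟨z, rfl⟩
    rw [Scheme.Opens.opensRange_ι]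
    show b (e z) ∈ U
    rw [← Scheme.Hom.comp_apply, he]
    exact z.2
  let σ := IsOpenImmersion.lift (b ⁻¹ᵁ U).ι e hr
  refine ⟨σ, ?_, ?_⟩
  · rw [← cancel_mono (b ⁻¹ᵁ U).ι, Category.assoc, IsOpenImmersion.lift_fac, Category.id_comp]
    refine H17.LocImmBlow.lift_unique hb ?_ fun z h => ?_
    · rw [Category.assoc, he, morphismRestrict_ι]
    · rw [Scheme.Hom.comp_apply] at h
      exact Set.disjoint_left.1 hU h z.2
  · rw [← cancel_mono U.ι, Category.assoc, morphismRestrict_ι, ← Category.assoc, IsOpenImmersion.lift_fac, he,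
      Category.id_comp]

/-- The divisor of a regular section: effective Cartier, inverse to the module, supported off the generation locus. -/
theorem exists_divisor [IsLocallyNoetherian X] {L : X.Modules} (hL : PicF.IsInvertible L) (g : Γ(L, ⊤))
    (hg : ∀ x : X, Function.Injective fun r : X.presheaf.stalk x => r • L.presheaf.germ ⊤ x trivial g) :
    ∃ D : X.IdealSheafData, BlowUp.IsEffCartierIdeal D ∧ (D.support : Set X) = (gen L g : Set X)ᶜ ∧
      ClSub.IsInverseOf L (ClSub.idealMod D) := by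
  let s := homOfGlobal L g
  haveI : Mono s := H22Alg.ESZConn.mono_homOfGlobal g hg
  have hs : H28Mero.IsRegularSection L s := fun x => H22Alg.ESZInt.regular_of_mono s x
  have hz := H11Bertini.zeroScheme_eq_zeroIdeal hL s
  obtain ⟨Dv, hDv, -⟩ := H28Mero.exists_divisor_zeroScheme L s hL hs
  have hD : BlowUp.IsEffCartierIdeal (PicF2.zeroScheme L s) := fun x => by
    obtain ⟨U, hxU, f, hf, hUf, -⟩ := hDv x
    refine ⟨U, hxU, f, mem_nonZeroDivisors_iff_right.2 fun b hb => ?_, hUf⟩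
    refine TopCat.Presheaf.section_ext ⟨X.presheaf, X.sheaf.2⟩ U.1 b 0 fun y hy => ?_
    have h1 : X.presheaf.germ U.1 y hy b * X.presheaf.germ U.1 y hy f = 0 := by
      rw [← map_mul, hb, map_zero]
    exact (mem_nonZeroDivisors_iff_right.1 (hf ⟨y, hy⟩) _ h1).trans (map_zero _).symm
  refine ⟨_, hD, ?_, ?_⟩
  · ext x
    show x ∈ (PicF2.zeroScheme L s).support ↔ _
    rw [H22Alg.ESZInt.mem_support hL s x, H11Ample.val_homOfGlobal]
    rfl
  · obtain ⟨N, hN, ⟨eN⟩⟩ := H11Sym.exists_inverse (H29Blow.isInvertible_of_isEffCartierIdeal _ hD)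
    obtain ⟨σ, hσ, hσr⟩ := H12Pic.PicCurve.exists_section_of_cartier _ hD N hN (H10Coh.Tw.commIso _ _ ≪≫ eN)
    obtain ⟨φ⟩ := H12Pic.PicCurve.nonempty_iso_of_zeroGerm_eq hN hL hσr hs fun y => by
      rw [← H12Pic.PicCurve.stalkIdeal_zeroIdeal N σ hN y, hσ, hz, H12Pic.PicCurve.stalkIdeal_zeroIdeal]
    exact ⟨PicGrp.tensorModIso φ.symm (Iso.refl _) ≪≫ eN⟩

variable {k : Type u} [Field k] (f : X ⟶ Spec (CommRingCat.of k)) [IsProper f]

/-- The boundary of an affine open supports an ample divisor after a blow-up outside the open. -/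
theorem exists_blowUp_ample_boundary [IsIntegral X] (U : X.Opens) (hU : IsAffineOpen U) :
    ∃ 𝓙 : X.IdealSheafData, (𝓙.support : Set X) ⊆ (U : Set X)ᶜ ∧
      ∃ (X' : Scheme.{u}) (b : X' ⟶ X), BlowUp.IsBlowUp b 𝓙 ∧ IsProper (b ≫ f) ∧
        ∃ (D : X'.IdealSheafData) (L : X'.Modules), BlowUp.IsEffCartierIdeal D ∧
          (D.support : Set X') = (fun x => b x) ⁻¹' ((U : Set X)ᶜ) ∧
          ClSub.IsInverseOf L (ClSub.idealMod D) ∧ CohB1.IsAmple L := by
  haveI : IsLocallyNoetherian X := LocallyOfFiniteType.isLocallyNoetherian f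
  haveI : CompactSpace X := QuasiCompact.compactSpace_of_compactSpace f
  haveI : IsNoetherian X := {}
  haveI : IsAffine U.toScheme := hU
  haveI : LocallyOfFiniteType (U.ι ≫ f) := inferInstance
  haveI : IsAffineHom (U.ι ≫ f) := isAffineHom_of_isAffine _
  obtain ⟨P, p, j, K, σ, hj, hp, hjp, hK, hgen⟩ := H8YBlow.exists_affine_closure (U.ι ≫ f)
  haveI := hj
  haveI := hp
  haveI : IsLocallyNoetherian P := LocallyOfFiniteType.isLocallyNoetherian p
  haveI : CompactSpace P := QuasiCompact.compactSpace_of_compactSpace p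
  haveI : IsNoetherian P := {}
  haveI : IsNoetherian U.toScheme := by
    haveI : IsLocallyNoetherian U.toScheme := LocallyOfFiniteType.isLocallyNoetherian U.ι
    haveI : CompactSpace U.toScheme := QuasiCompact.compactSpace_of_compactSpace (U.ι ≫ f)
    exact {}
  obtain ⟨W, b, q, I, J, w, hWn, -, hd, hwb, hwq, hsq, hbI, hI, hqJ, hJ⟩ :=
    H17.LocImmBlow.join f p U.ι j (H17.LocImB.isLocImmersion_of_isOpenImmersion U.ι)
      (H17.LocImB.isLocImmersion_of_isOpenImmersion j) hjp.symm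
  haveI := hWn
  haveI := H17.LocImmBlow.isProper hbI
  haveI := H17.LocImmBlow.isProper hqJ
  have hIU : (I.support : Set X) ⊆ (U : Set X)ᶜ := fun x hx hxU =>
    Set.disjoint_left.1 hI hx ⟨⟨x, hxU⟩, rfl⟩
  refine ⟨I, hIU, W, b, hbI, inferInstance, ?_⟩
  have hKA : CohB1.IsAmple K := isRelAmple_iff_isAmple_of_isAffine.1 hK
  have hKi := hKA.1
  -- the two descriptions of the open
  have hO : (b ⁻¹ᵁ U : W.Opens) = q ⁻¹ᵁ gen K σ := by
    refine TopologicalSpace.Opens.ext (Set.ext fun y => ?_)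
    show b y ∈ U ↔ q y ∈ gen K σ
    rw [hgen]
    constructor
    · intro hy
      have h1 : b (w ⟨b y, hy⟩) = b y := by rw [← Scheme.Hom.comp_apply, hwb]; rfl
      have h2 := H17.LocImmBlow.eq_of_apply_eq hbI h1 fun h => hIU h hy
      exact ⟨⟨b y, hy⟩, by rw [← hwq, Scheme.Hom.comp_apply, h2]⟩
    · rintro ⟨v, hv⟩
      have h1 : q (w v) = q y := by rw [← Scheme.Hom.comp_apply, hwq]; exact hv
      have h2 := H17.LocImmBlow.eq_of_apply_eq hqJ h1 fun h => Set.disjoint_left.1 hJ h ⟨v, hv⟩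
      rw [← h2, ← Scheme.Hom.comp_apply, hwb]
      exact v.2
  let M := (Scheme.Modules.pullback q).obj K
  have hM : PicF.IsInvertible M := isInvertible_pullback q hKi
  let τ : Γ(M, ⊤) := pullTop q σ
  have hτ : gen M τ = b ⁻¹ᵁ U := by
    rw [hO]
    exact H8Props.ProjOpenAmple.gen_pullTop q (fun y => exists_gen hKi (q y)) σ
  let O1 := H11Strict.BlowProj.O1 q J
  have hJft := H17.LocImmBlow.isFiniteTypeIdeal J
  have hrel : RelAmple.IsRelAmple q O1 := H8YBlow.isRelAmple_exceptional hJft hqJ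
  have hO1 : PicF.IsInvertible O1 := isInvertible_of_isRelAmple hrel
  obtain ⟨n₀, -, hn₀⟩ := eventually_isAmple_tensor_pullback q hrel hKA
  obtain ⟨e, he⟩ := H8YBlow.exists_isGen_exceptional hqJ (gen K σ) (by
    rw [hgen]; exact hJ)
  have hG : gen (CohB1.tensorPow M 1) (spow τ 1) = b ⁻¹ᵁ U := by rw [gen_spow hM τ 1 one_pos, hτ]
  have hGle : gen (CohB1.tensorPow M 1) (spow τ 1) ≤ q ⁻¹ᵁ gen K σ := (hG.trans hO).le
  have hτgen : IsGen M (M.presheaf.map (homOfLE (le_top : gen (CohB1.tensorPow M 1) (spow τ 1) ≤ ⊤)).op τ) := by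
    intro y hy
    rw [TopCat.Presheaf.germ_res_apply]
    exact (mem_gen_iff hM τ y).1 ((hG.trans hτ.symm).le hy)
  let e' : Γ(O1, gen (CohB1.tensorPow M 1) (spow τ 1)) := O1.presheaf.map (homOfLE hGle).op e
  have he' : IsGen O1 e' := fun y hy => by
    rw [TopCat.Presheaf.germ_res_apply]
    exact he y (hGle hy)
  obtain ⟨N, hN⟩ := exists_extend (F := O1) hM (H28Mero.isQCoh_of_isInvertible hO1) 1 0 (spow τ 1)
    (tm e' (spow (M.presheaf.map (homOfLE (le_top : gen (CohB1.tensorPow M 1) (spow τ 1) ≤ ⊤)).op τ) 0))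
  let n := max N n₀
  obtain ⟨S, hS⟩ := hN n (le_max_left _ _)
  have hS' := hS _ le_rfl (M.presheaf.map (homOfLE le_top).op τ) e' 1 hτgen
    (by rw [show homOfLE (le_refl _) = 𝟙 _ from rfl, op_id, CategoryTheory.Functor.map_id]; rfl)
    (by rw [one_smul, spow_res])
  rw [one_pow, one_smul] at hS'
  have hSgen : b ⁻¹ᵁ U ≤ gen _ S := by
    refine hG.ge.trans fun y hy => ?_
    refine mem_gen_of_isGen ?_ hy
    rw [hS']
    exact isGen_tm he' (isGen_spow hτgen _)
  let L₀ := CohB1.tensorMod O1 (CohB1.tensorPow M (0 + n * 1))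
  have hL₀ : PicF.IsInvertible L₀ := isInvertible_tensor hO1 (isInvertible_tensorPow hM _)
  let L := CohB1.tensorMod L₀ M
  have hL : PicF.IsInvertible L := isInvertible_tensor hL₀ hM
  let g : Γ(L, ⊤) := tm S τ
  have hg : gen L g = b ⁻¹ᵁ U := by
    rw [gen_tm hL₀ hM, hτ]
    exact inf_eq_right.2 hSgen
  have hamp : CohB1.IsAmple L := by
    obtain ⟨φ⟩ := exists_iso_assoc hO1 (isInvertible_tensorPow hM (0 + n * 1)) hM
    obtain ⟨ψ⟩ := exists_iso_pullback_tensorPow q hKi (0 + n * 1 + 1)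
    exact isAmple_of_iso (φ ≪≫ PicGrp.tensorModIso (Iso.refl O1) ψ.symm).symm
      (hn₀ _ (by simp only [zero_add, mul_one]; omega))
  have hreg : ∀ x : W, Function.Injective fun r : W.presheaf.stalk x => r • L.presheaf.germ ⊤ x trivial g := by
    intro x
    haveI : Nonempty W := ⟨x⟩
    obtain ⟨v⟩ : Nonempty U.toScheme := by
      obtain ⟨_, ⟨v, rfl⟩⟩ := hd.nonempty
      exact ⟨v⟩
    have hI0 : I ≠ ⊥ := fun h => by
      refine hIU ?_ v.2
      rw [h, Scheme.IdealSheafData.support_bot]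
      trivial
    obtain ⟨hWi, -, -⟩ := S2348.result _ hI0 b hbI
    haveI := hWi
    have hne : homOfGlobal L g ≠ 0 := fun h => by
      have hy : w v ∈ gen L g := by
        rw [hg]
        show b (w v) ∈ U
        rw [← Scheme.Hom.comp_apply, hwb]
        exact v.2
      have h0 : g = 0 := by
        rw [← H11Ample.val_homOfGlobal g, h]
        rfl
      rw [h0, mem_gen_iff hL, map_zero] at hy
      exact one_ne_zero (hy.1 (a₁ := 1) (a₂ := 0) (by simp))
    have h1 := H28Mero.isRegularSection_of_ne_zero L _ hL hne x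
    rwa [show H28Mero.sGerm L (homOfGlobal L g) x = L.presheaf.germ ⊤ x trivial g from
      congrArg (L.presheaf.germ ⊤ x trivial) (H11Ample.val_homOfGlobal g)] at h1
  obtain ⟨D, hD, hsupp, hinv⟩ := exists_divisor hL g hreg
  refine ⟨D, L, hD, ?_, hinv, hamp⟩
  rw [hsupp, hg]
  rfl

/-- An open over which a blow-up with ample boundary divisor is an isomorphism is affine. -/
theorem isAffineOpen_of_blowUp_ample_boundary (U : X.Opens) {𝓙 : X.IdealSheafData}
    (h𝓙 : (𝓙.support : Set X) ⊆ (U : Set X)ᶜ) {X' : Scheme.{u}} {b : X' ⟶ X} (hb : BlowUp.IsBlowUp b 𝓙)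
    [IsProper (b ≫ f)] {D : X'.IdealSheafData} {L : X'.Modules} (hD : BlowUp.IsEffCartierIdeal D)
    (hsupp : (D.support : Set X') = (fun x => b x) ⁻¹' ((U : Set X)ᶜ))
    (hinv : ClSub.IsInverseOf L (ClSub.idealMod D)) (hamp : CohB1.IsAmple L) : IsAffineOpen U := by
  obtain ⟨e⟩ := hinv
  obtain ⟨σ, hσ, -⟩ := H12Pic.PicCurve.exists_section_of_cartier D hD L hamp.1 (H10Coh.Tw.commIso _ _ ≪≫ e)
  let g : Γ(L, ⊤) := SecTwist.val σ ⊤
  have hgU : gen L g = b ⁻¹ᵁ U := by
    refine TopologicalSpace.Opens.ext (Set.ext fun y => ?_)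
    show y ∈ gen L g ↔ b y ∈ U
    have h1 : y ∈ D.support ↔ ¬ b y ∈ U := by
      rw [← SetLike.mem_coe, hsupp]; rfl
    rw [← not_iff_not, ← h1, ← hσ, H12Pic.PicCurve.zeroIdeal_support, not_iff_comm, not_not, mem_gen_iff hamp.1]
    constructor
    · intro h
      exact (H12Pic.PicCurve.mem_genAt_of_zeroGerm_eq_top hamp.1 σ ⊤ (trivial : y ∈ (⊤ : X'.Opens)) h).2
    · intro hb
      obtain ⟨V, hV, hyV, -, e, c, he, hc⟩ := H28Mero.exists_section_coeff L σ hamp.1 ⊤ y trivial
      rw [H28Mero.zeroGerm_eq_span L σ (he y hyV) (hc y hyV), Ideal.span_singleton_eq_top]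
      obtain ⟨r, hr⟩ := hb.2 (L.presheaf.germ V y hyV e)
      refine IsUnit.of_mul_eq_one r ?_
      refine (he y hyV).1 ?_
      show (_ * r) • _ = (1 : X'.presheaf.stalk y) • _
      rw [one_smul, mul_comm, mul_smul, ← hc y hyV]
      exact hr
  have haff : IsAffineOpen (b ⁻¹ᵁ U) := hgU ▸ H17.GenAffine.isAffineOpen_gen (b ≫ f) hamp g
  haveI := isIso_restrict hb U (Set.disjoint_left.2 fun x hx hxU => h𝓙 hx hxU)
  haveI : IsAffine (b ⁻¹ᵁ U).toScheme := haff
  exact IsAffine.of_isIso (inv (b ∣_ U))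

end Groth.Agent.H11Blow.Goodman
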