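import Groth.Prelude.Def_RegImm
import Groth.Agent.H11Blow.Vanish
import Groth.Agent.H06QR.Regular
import Groth.Agent.H29Slice.QuasiReg
import Groth.Agent.H17.TwoGlue
import Groth.Agent.H19Grp.RegularSmooth
import Groth.Agent.H29Ref.Hartogs
import Groth.Agent.H28Vert.Contracted
import Groth.Agent.H28Pinch.DirectImageTrivial
import Groth.Agent.H10Coh.Kill
import Groth.Agent.H10Coh.Serre
import Groth.Agent.H10Coh.PushAb
import Groth.Agent.H16Derived.KFlat.FinLocFree
import Groth.Agent.H29Blow.MaxPoints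
import Groth.Agent.S2348
import Groth.Agent.H4Depth.Regular

/-!
# Direct images along a blow-up in a regularly immersed centre
-/

set_option autoImplicit false
set_option linter.style.haveILetI false
set_option linter.unusedSectionVars false
set_option backward.isDefEq.respectTransparency false

noncomputable section

universe u

open CategoryTheory CategoryTheory.Limits AlgebraicGeometry TopologicalSpace Opposite
open Groth.Agent.H10Coh Groth.Agent.H11Ample

namespace Groth.Agent.H11Blow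

variable {S X Y : Scheme.{u}} {σ : X ⟶ Y}

/-- The opens used as a basis: good and integral. -/
def Nice (𝓘 : Y.IdealSheafData) (n : ℕ) (W : Y.Opens) : Prop :=
  GoodOpen 𝓘 n W ∧ IsIntegral W.toScheme

theorem isQuasiRegular_unit_span {R : Type u} [CommRing R] {n : ℕ} (g : Fin n → R)
    (h : Ideal.span (Set.range g) = ⊤) : CAlgX.IsQuasiRegular g := fun _ _ _ _ _ => by
  rw [h]
  exact Submodule.mem_top

/-- Good open neighbourhoods. -/
theorem exists_good [IsLocallyNoetherian Y] (i : S ⟶ Y) [IsClosedImmersion i] (n : ℕ)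
    (hi : RegImm.IsRegularImmersionOfCodim .regular (n + 1) i) {y : Y} {O : Y.Opens} (hy : y ∈ O) :
    ∃ W : Y.Opens, GoodOpen i.ker n W ∧ y ∈ W ∧ W ≤ O := by
  classical
  by_cases hys : y ∈ Set.range i
  · obtain ⟨z, rfl⟩ := hys
    obtain ⟨U, hzU, -, rs, hlen, hseq, hker⟩ := hi.2 z
    obtain ⟨r, hrO, hzr⟩ := U.2.exists_basicOpen_le (V := O) ⟨i z, hy⟩ hzU
    let g : Fin (n + 1) → Γ(Y, U.1) := fun m => rs.get (Fin.cast hlen.symm m)
    have hofFn : List.ofFn g = rs := by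
      refine List.ext_get (by simp [hlen]) fun m h₁ h₂ => ?_
      simp only [List.get_eq_getElem, List.getElem_ofFn, g]
      rfl
    have hq : CAlgX.IsQuasiRegular g := H06QR.Regular.isQuasiRegular_of_isWeaklyRegular g (by
      rw [hofFn]
      exact hseq.toIsWeaklyRegular)
    have hspan : i.ker.ideal U = Ideal.span (Set.range g) := by
      rw [Scheme.Hom.ker_apply, hker, Ideal.ofList]
      congr 1
      ext v
      constructor
      · intro hv
        obtain ⟨m, hm⟩ := List.get_of_mem hv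
        exact ⟨Fin.cast hlen m, by simpa [g] using hm⟩
      · rintro ⟨m, rfl⟩
        exact List.get_mem rs _
    refine ⟨Y.basicOpen r, ⟨U.2.basicOpen r,
      fun m => Y.presheaf.map (homOfLE (Y.basicOpen_le r)).op (g m), ?_, ?_⟩, hzr, hrO⟩
    · rw [← i.ker.map_ideal (U := ⟨_, U.2.basicOpen r⟩) (V := U) (Y.basicOpen_le r), hspan, Ideal.map_span,
        ← Set.range_comp]
      rfl
    · haveI := U.2.isLocalization_basicOpen r
      exact H29Slice.isQuasiRegular_localization (L := Γ(Y, Y.basicOpen r)) (Submonoid.powers r) hq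
  · let O' : Y.Opens := O ⊓ ⟨(Set.range i)ᶜ, i.isClosedEmbedding.isClosed_range.isOpen_compl⟩
    obtain ⟨W, hW, hyW, hle⟩ := exists_isAffineOpen_mem_and_subset (U := O') (x := y) ⟨hy, hys⟩
    let g : Fin (n + 1) → Γ(Y, W) := fun _ => 1
    have hg : Ideal.span (Set.range g) = ⊤ := (Ideal.eq_top_iff_one _).2 (Ideal.subset_span ⟨0, rfl⟩)
    refine ⟨W, ⟨hW, g, ?_, isQuasiRegular_unit_span g hg⟩, hyW, fun z hz => (hle hz).1⟩
    rw [hg, Scheme.Hom.ker_apply, Ideal.eq_top_iff_one, RingHom.mem_ker, map_one]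
    haveI : Subsingleton Γ(S, i ⁻¹ᵁ W) := by
      rw [show i ⁻¹ᵁ W = ⊥ from eq_bot_iff.2 fun z hz => ((hle hz).2 ⟨z, rfl⟩).elim]
      infer_instance
    exact Subsingleton.elim _ _

/-- Nice open neighbourhoods. -/
theorem exists_nice [IsLocallyNoetherian Y] (hreg : ∀ y : Y, IsRegularLocalRing (Y.presheaf.stalk y))
    (i : S ⟶ Y) [IsClosedImmersion i] (n : ℕ) (hi : RegImm.IsRegularImmersionOfCodim .regular (n + 1) i)
    {y : Y} {O : Y.Opens} (hy : y ∈ O) : ∃ W : Y.Opens, Nice i.ker n W ∧ y ∈ W ∧ W ≤ O := by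
  haveI := hreg y
  haveI : IsDomain (Y.presheaf.stalk y) := H4Depth.isDomain_of_isRegularLocalRing _
  obtain ⟨W₀, hyW₀, -, hint⟩ := H17.exists_isIntegral_nhd y (Or.inl inferInstance)
  obtain ⟨W, hG, hyW, hle⟩ := exists_good i n hi (show y ∈ O ⊓ W₀ from ⟨hy, hyW₀⟩)
  haveI : Nonempty W.toScheme := ⟨⟨y, hyW⟩⟩
  exact ⟨W, ⟨hG, isIntegral_of_isOpenImmersion (Y.homOfLE (hle.trans inf_le_right))⟩, hyW, hle.trans inf_le_left⟩

/-- Higher direct images vanish if cohomology vanishes over the good opens. -/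
theorem isZero_of_good [IsLocallyNoetherian Y] (i : S ⟶ Y) [IsClosedImmersion i] (n : ℕ)
    (hi : RegImm.IsRegularImmersionOfCodim .regular (n + 1) i) (M : X.Modules) {p : ℕ} (hp : 1 ≤ p)
    (h : ∀ W : Y.Opens, GoodOpen i.ker n W → Subsingleton (HnM M p (σ ⁻¹ᵁ W))) :
    IsZero ((Coh.RpushAb σ p).obj (Coh.toAb M)) := by
  obtain ⟨q, rfl⟩ := Nat.exists_eq_add_of_le' hp
  refine isZero_rpush_of_vanishing σ.base (Coh.toAb M) q {W | GoodOpen i.ker n W} ?_ h
  exact Opens.isBasis_iff_nbhd.2 fun {U x} hx => by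
    obtain ⟨W, hW, hxW, hWU⟩ := exists_good i n hi hx
    exact ⟨W, hW, hxW, hWU⟩

theorem ideal_ne_bot_of_quasiRegular {R : Type u} [CommRing R] [Nontrivial R] {n : ℕ} (g : Fin (n + 1) → R)
    (hq : CAlgX.IsQuasiRegular g) : Ideal.span (Set.range g) ≠ ⊥ := fun h => by
  have h1 := hq 1 (MvPolynomial.X 0) (MvPolynomial.isHomogeneous_X R 0) (by
    rw [MvPolynomial.eval_X, show g 0 = 0 from (Submodule.mem_bot R).1 (h.le (Ideal.subset_span ⟨0, rfl⟩))]
    exact Ideal.zero_mem _) (Finsupp.single 0 1)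
  rw [MvPolynomial.coeff_X, h, Submodule.mem_bot] at h1
  simp at h1

/-- On nice opens the blow-up does not change functions. -/
theorem bijective_app_nice {i : Y.IdealSheafData} (hσ : BlowUp.IsBlowUp σ i) [IsProper σ] {n : ℕ} {W : Y.Opens}
    (hW : Nice i n W) (hreg : ∀ y : Y, IsRegularLocalRing (Y.presheaf.stalk y)) {V : Y.Opens} (hV : V ≤ W) :
    Function.Bijective (σ.app V) := by
  obtain ⟨⟨hWa, g, hI, hq⟩, hint⟩ := hW
  haveI : IsAffine W.toScheme := hWa
  haveI := hint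
  have hb := H11Strict.isBlowUp_restrict_opens hσ W
  let φ : Γ(Y, W) →+* Γ(W.toScheme, ⊤) := (W.ι.appLE W ⊤ W.ι_preimage_self.ge).hom
  have hI' := ideal_comap_ι hWa g hI
  have hφ : Function.Bijective φ := by
    haveI : IsIso (W.ι.app W) := Scheme.Hom.isIso_app _ _ (by rw [Scheme.Opens.opensRange_ι])
    haveI : IsIso (W.ι.appLE W ⊤ W.ι_preimage_self.ge) := by
      rw [Scheme.Hom.appLE, show homOfLE W.ι_preimage_self.ge = eqToHom W.ι_preimage_self.symm from
        Subsingleton.elim _ _]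
      infer_instance
    exact ConcreteCategory.bijective_of_isIso _
  have hne : Ideal.span (Set.range fun m => φ (g m)) ≠ ⊥ :=
    ideal_ne_bot_of_quasiRegular _ (isQuasiRegular_map φ hφ hq)
  obtain ⟨a, haI, ha⟩ := Submodule.exists_mem_ne_zero_of_ne_bot (hI'.symm ▸ hne)
  have hIne : i.comap W.ι ≠ ⊥ := fun h => ha (by
    rw [h] at haI
    simpa using haI)
  obtain ⟨hintX, -, -⟩ := S2348.result _ hIne (σ ∣_ W) hb
  haveI := hintX
  let U : W.toScheme.Opens := W.toScheme.basicOpen a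
  have hUne : (U : Set W.toScheme).Nonempty := by
    by_contra h
    rw [Set.not_nonempty_iff_eq_empty] at h
    exact ha ((basicOpen_eq_bot_iff a).1 (Opens.ext h))
  haveI : IsIso ((σ ∣_ W) ∣_ U) := H29Blow.isIso_morphismRestrict hb U fun x hx =>
    H29Blow.basicOpen_disjoint_support (U := ⟨⊤, isAffineOpen_top _⟩) haI hx
  obtain ⟨hξ, hbir⟩ := H28Vert.birational_of_isIso_restrict (σ ∣_ W) U hUne
  have hregW : ∀ z : W.toScheme, IsRegularLocalRing (W.toScheme.presheaf.stalk z) := fun z => by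
    haveI := hreg z.1
    exact IsRegularLocalRing.of_ringEquiv (W.stalkIso z).commRingCatIsoToRingEquiv.symm
  have h := H28Pinch.bijective_app_of_birational (σ ∣_ W) (H29Ref.isNormalScheme_of_regular hregW) hξ hbir
    (W.ι ⁻¹ᵁ V)
  rw [morphismRestrict_app] at h
  have h2 : Function.Bijective (σ.app (W.ι ''ᵁ (W.ι ⁻¹ᵁ V))) := by
    refine (Function.Bijective.of_comp_iff' (ConcreteCategory.bijective_of_isIso
      (X.presheaf.map (eqToHom (image_morphismRestrict_preimage σ W (W.ι ⁻¹ᵁ V))).op)) _).1 ?_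
    exact h
  rwa [Scheme.Hom.image_preimage_eq_opensRange_inf, Scheme.Opens.opensRange_ι, inf_eq_right.2 hV] at h2

/-- The blow-up does not change functions. -/
theorem bijective_app [IsLocallyNoetherian Y] (hreg : ∀ y : Y, IsRegularLocalRing (Y.presheaf.stalk y))
    (i : S ⟶ Y) [IsClosedImmersion i] (n : ℕ) (hi : RegImm.IsRegularImmersionOfCodim .regular (n + 1) i)
    (hσ : BlowUp.IsBlowUp σ i.ker) [IsProper σ] (V : Y.Opens) : Function.Bijective (σ.app V) := by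
  haveI : IsIso (ClSub.unitToPush σ) := H28Pinch.isIso_of_locally_bijective _ fun y => by
    obtain ⟨W, hW, hyW, -⟩ := exists_nice hreg i n hi (show y ∈ (⊤ : Y.Opens) from trivial)
    exact ⟨W, hyW, fun V' hV' => bijective_app_nice hσ hW hreg hV'⟩
  haveI := Scheme.Modules.Hom.isIso_iff_isIso_app.1 ‹IsIso (ClSub.unitToPush σ)› V
  exact ConcreteCategory.bijective_of_isIso ((ClSub.unitToPush σ).app V)

theorem subsingleton_free_of_structure {Z : Scheme.{u}} (r q : ℕ) {U : Z.Opens}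
    (h : Subsingleton (HnM (Coh.structureModule Z) q U)) : Subsingleton (HnM (FlatMod.freeMod Z r) q U) := by
  classical
  let F : Fin r → Z.Modules := fun _ => Coh.structureModule Z
  have hsum : ∑ j, (Sigma.desc (Pi.single j (𝟙 (Coh.structureModule Z)) : ∀ b, F b ⟶ _) ≫ Sigma.ι F j) = 𝟙 (∐ F) := by
    refine Sigma.hom_ext _ _ fun b => ?_
    rw [Preadditive.comp_sum, Category.comp_id, Finset.sum_eq_single b]
    · rw [Sigma.ι_desc_assoc, Pi.single_eq_same, Category.id_comp]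
    · intro j _ hj
      rw [Sigma.ι_desc_assoc, Pi.single_eq_of_ne hj.symm, zero_comp]
    · simp
  refine Tw.subsingleton_of_sum_eq_id (ι := Fin r) (P := fun _ => sh (Coh.structureModule Z))
    (fun j => (shF Z).map (Sigma.desc (Pi.single j (𝟙 (Coh.structureModule Z)) : ∀ b, F b ⟶ _)))
    (fun j => (shF Z).map (Sigma.ι F j)) ?_ (fun _ => h)
  simp only [← Functor.map_comp, ← Functor.map_sum, hsum]
  exact (shF Z).map_id _

theorem exists_basis_finLocFree [IsLocallyNoetherian Y] (i : S ⟶ Y) [IsClosedImmersion i] (n : ℕ)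
    (hi : RegImm.IsRegularImmersionOfCodim .regular (n + 1) i) {E : Y.Modules} (hE : FlatMod.IsFinLocFree E)
    {y : Y} {O : Y.Opens} (hy : y ∈ O) :
    ∃ W : Y.Opens, (GoodOpen i.ker n W ∧ ∃ (U : Y.Opens) (r : ℕ), W ≤ U ∧
      Nonempty (E.restrict U.ι ≅ FlatMod.freeMod U.toScheme r)) ∧ y ∈ W ∧ W ≤ O := by
  obtain ⟨U, r, hyU, he⟩ := hE y
  obtain ⟨W, hW, hyW, hle⟩ := exists_good i n hi (show y ∈ O ⊓ U from ⟨hy, hyU⟩)
  exact ⟨W, ⟨hW, U, r, hle.trans inf_le_right, he⟩, hyW, hle.trans inf_le_left⟩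

/-- Pullbacks of finite locally free modules have no higher cohomology over small opens. -/
theorem subsingleton_pullback (i : Y.IdealSheafData) (hσ : BlowUp.IsBlowUp σ i) [IsNoetherian Y] [IsProper σ]
    {n : ℕ} {W : Y.Opens} (hG : GoodOpen i n W) {E : Y.Modules} {U : Y.Opens} {r : ℕ} (hWU : W ≤ U)
    (e : E.restrict U.ι ≅ FlatMod.freeMod U.toScheme r) {p : ℕ} (hp : 1 ≤ p) :
    Subsingleton (HnM ((Scheme.Modules.pullback σ).obj E) p (σ ⁻¹ᵁ W)) := by
  let O := σ ⁻¹ᵁ U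
  have hle : σ ⁻¹ᵁ W ≤ O := σ.preimage_mono hWU
  have himg : O.ι ''ᵁ (O.ι ⁻¹ᵁ (σ ⁻¹ᵁ W)) = σ ⁻¹ᵁ W := by
    rw [Scheme.Hom.image_preimage_eq_opensRange_inf, Scheme.Opens.opensRange_ι, inf_eq_right.2 hle]
  refine subsingleton_HnM_image O.ι _ p (O.ι ⁻¹ᵁ (σ ⁻¹ᵁ W)) _ himg ?_
  refine Tw.subsingleton_of_iso ((H16Derived.KFlat.Stalk.pullbackRestrictIso σ U).app E ≪≫
    (Scheme.Modules.pullback (σ ∣_ U)).mapIso e ≪≫
      H16Derived.KFlat.Stalk.freeModPullbackIso (σ ∣_ U) r).symm ?_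
  refine subsingleton_free_of_structure r p (Tw.subsingleton_of_iso (Scheme.Modules.restrictUnitIso O.ι) ?_)
  haveI : Subsingleton (HnM (Coh.structureModule X) p (O.ι ''ᵁ (O.ι ⁻¹ᵁ (σ ⁻¹ᵁ W)))) :=
    himg.symm ▸ subsingleton_structure hσ hG p hp
  exact (restrEquivM O.ι (Coh.structureModule X) p _).symm.toEquiv.subsingleton

/-- Higher direct images of pullbacks of finite locally free modules vanish. -/
theorem isZero_pullback [IsNoetherian Y] (i : S ⟶ Y) [IsClosedImmersion i] (n : ℕ)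
    (hi : RegImm.IsRegularImmersionOfCodim .regular (n + 1) i) (hσ : BlowUp.IsBlowUp σ i.ker) [IsProper σ]
    {E : Y.Modules} (hE : FlatMod.IsFinLocFree E) {p : ℕ} (hp : 1 ≤ p) :
    IsZero ((Coh.RpushAb σ p).obj (Coh.toAb ((Scheme.Modules.pullback σ).obj E))) := by
  obtain ⟨q, rfl⟩ := Nat.exists_eq_add_of_le' hp
  refine isZero_rpush_of_vanishing σ.base (Coh.toAb ((Scheme.Modules.pullback σ).obj E)) q
    {W | GoodOpen i.ker n W ∧ ∃ (U : Y.Opens) (r : ℕ), W ≤ U ∧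
      Nonempty (E.restrict U.ι ≅ FlatMod.freeMod U.toScheme r)} ?_ fun W hW => ?_
  · exact Opens.isBasis_iff_nbhd.2 fun {U x} hx => by
      obtain ⟨W, hW, hxW, hWU⟩ := exists_basis_finLocFree i n hi hE hx
      exact ⟨W, hW, hxW, hWU⟩
  · obtain ⟨hG, U, r, hWU, ⟨e⟩⟩ := hW
    exact subsingleton_pullback i.ker hσ hG hWU e (Nat.succ_pos q)

/-- The assertions for a cokernel of finite locally free modules. -/
theorem of_resolution [IsNoetherian Y] (hreg : ∀ y : Y, IsRegularLocalRing (Y.presheaf.stalk y)) (i : S ⟶ Y)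
    [IsClosedImmersion i] (n : ℕ) (hi : RegImm.IsRegularImmersionOfCodim .regular (n + 1) i)
    (hσ : BlowUp.IsBlowUp σ i.ker) [IsProper σ] (T : ShortComplex Y.Modules) (hT : T.ShortExact)
    (h₁ : FlatMod.IsFinLocFree T.X₁) (h₀ : FlatMod.IsFinLocFree T.X₂)
    (hpull : (T.map (Scheme.Modules.pullback σ)).ShortExact) :
    IsIso ((Scheme.Modules.pullbackPushforwardAdjunction σ).unit.app T.X₃) ∧
    ∀ p : ℕ, 1 ≤ p → IsZero ((Coh.RpushAb σ p).obj (Coh.toAb ((Scheme.Modules.pullback σ).obj T.X₃))) := by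
  let P := {W : Y.Opens | GoodOpen i.ker n W ∧
    (∃ (U : Y.Opens) (r : ℕ), W ≤ U ∧ Nonempty (T.X₁.restrict U.ι ≅ FlatMod.freeMod U.toScheme r)) ∧
      ∃ (U : Y.Opens) (r : ℕ), W ≤ U ∧ Nonempty (T.X₂.restrict U.ι ≅ FlatMod.freeMod U.toScheme r)}
  have hP : Opens.IsBasis P := Opens.isBasis_iff_nbhd.2 fun {O x} hx => by
    obtain ⟨U₁, r₁, hx₁, he₁⟩ := h₁ x
    obtain ⟨U₂, r₂, hx₂, he₂⟩ := h₀ x
    obtain ⟨W, hW, hxW, hle⟩ := exists_good i n hi (show x ∈ O ⊓ (U₁ ⊓ U₂) from ⟨hx, hx₁, hx₂⟩)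
    exact ⟨W, ⟨hW, ⟨U₁, r₁, hle.trans (inf_le_right.trans inf_le_left), he₁⟩,
      ⟨U₂, r₂, hle.trans (inf_le_right.trans inf_le_right), he₂⟩⟩, hxW, hle.trans inf_le_left⟩
  have hv₁ : ∀ W ∈ P, ∀ p, 1 ≤ p → Subsingleton (HnM ((Scheme.Modules.pullback σ).obj T.X₁) p (σ ⁻¹ᵁ W)) :=
    fun W hW p hp => by
      obtain ⟨hG, ⟨U, r, hWU, ⟨e⟩⟩, -⟩ := hW
      exact subsingleton_pullback i.ker hσ hG hWU e hp
  have hv₂ : ∀ W ∈ P, ∀ p, 1 ≤ p → Subsingleton (HnM ((Scheme.Modules.pullback σ).obj T.X₂) p (σ ⁻¹ᵁ W)) :=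
    fun W hW p hp => by
      obtain ⟨hG, -, U, r, hWU, ⟨e⟩⟩ := hW
      exact subsingleton_pullback i.ker hσ hG hWU e hp
  refine ⟨?_, fun p hp => ?_⟩
  · let adj := Scheme.Modules.pullbackPushforwardAdjunction σ
    have hbij := bijective_app hreg i n hi hσ
    haveI := H28Pinch.isIso_unit_of_isFinLocFree σ hbij T.X₁ h₁
    haveI := H28Pinch.isIso_unit_of_isFinLocFree σ hbij T.X₂ h₀
    let R := (T.map (Scheme.Modules.pullback σ)).map (Scheme.Modules.pushforward σ)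
    haveI : (Scheme.Modules.pushforward σ).IsRightAdjoint := adj.isRightAdjoint
    haveI := hpull.mono_f
    have hRex : R.Exact := hpull.exact.map_of_mono_of_preservesKernel (Scheme.Modules.pushforward σ) inferInstance
      inferInstance
    haveI : Epi R.g := by
      refine (shF Y).epi_of_epi_map ?_
      refine epi_of_locally_surjective _ fun U t x hx => ?_
      obtain ⟨W, hW, hxW, hWU⟩ := Opens.isBasis_iff_nbhd.1 hP hx
      exact ⟨W, hWU, hxW, surjective_app_of_subsingleton_HnM hpull (σ ⁻¹ᵁ W) (hv₁ W hW 1 le_rfl) _⟩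
    haveI := hT.epi_g
    have n₁ : T.f ≫ adj.unit.app T.X₂ = adj.unit.app T.X₁ ≫ R.f := adj.unit.naturality T.f
    have n₂ : T.g ≫ adj.unit.app T.X₃ = adj.unit.app T.X₂ ≫ R.g := adj.unit.naturality T.g
    have hk : R.f ≫ inv (adj.unit.app T.X₂) ≫ T.g = 0 := by
      rw [← cancel_epi (adj.unit.app T.X₁), ← Category.assoc, ← n₁, Category.assoc, IsIso.hom_inv_id_assoc, T.zero,
        comp_zero]
    refine ⟨⟨hRex.desc _ hk, ?_, ?_⟩⟩
    · rw [← cancel_epi T.g, ← Category.assoc]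
      erw [n₂, Category.assoc, hRex.g_desc, IsIso.hom_inv_id_assoc, Category.comp_id]
    · rw [← cancel_epi R.g, ← Category.assoc, hRex.g_desc, Category.assoc]
      erw [n₂, IsIso.inv_hom_id_assoc, Category.comp_id]
  · obtain ⟨q, rfl⟩ := Nat.exists_eq_add_of_le' hp
    refine isZero_rpush_of_vanishing σ.base (Coh.toAb _) q P hP fun W hW => ?_
    exact Tw.subsingleton_X₃ (shortExact_sh hpull) (hv₂ W hW (q + 1) (Nat.succ_pos q))
      (hv₁ W hW (q + 1 + 1) (Nat.succ_pos _))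

/-- The direct image of `O(D)` is the structure sheaf. -/
theorem nonempty_push_inverse [IsNoetherian Y] (hreg : ∀ y : Y, IsRegularLocalRing (Y.presheaf.stalk y))
    (i : S ⟶ Y) [IsClosedImmersion i] (n : ℕ) (hn : 1 ≤ n)
    (hi : RegImm.IsRegularImmersionOfCodim .regular (n + 1) i) (hσ : BlowUp.IsBlowUp σ i.ker) [IsProper σ]
    (L : X.Modules) (hL : ClSub.IsInverseOf L (ClSub.idealMod (BlowUp.exceptional σ i.ker))) :
    Nonempty ((Scheme.Modules.pushforward σ).obj L ≅ Coh.structureModule Y) := by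
  obtain ⟨φ⟩ := hL
  have hLi : PicF.IsInvertible L := H17.InvertibleTensor.isInvertible_of_tensor_iso L _ φ
  obtain ⟨T, hT, ⟨e₁⟩, ⟨e₂⟩, ⟨e₃⟩⟩ := exists_seq (BlowUp.exceptional σ i.ker) hLi
  have h3 : ∀ (V : Y.Opens) (s : Γ(T.X₃, σ ⁻¹ᵁ V)), s = 0 := fun V s => by
    refine H11Tilde.eq_of_locally _ _ fun x hx => ?_
    obtain ⟨W, hW, hxW, hWV⟩ := exists_good i n hi (show σ x ∈ V from hx)
    haveI := Tw.subsingleton_of_iso e₃.symm (subsingleton_exc_inverse hσ hn hW hLi φ 0)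
    haveI : Subsingleton Γ(T.X₃, σ ⁻¹ᵁ W) := (H0Equiv (sh T.X₃) (σ ⁻¹ᵁ W)).symm.toEquiv.subsingleton
    exact ⟨σ ⁻¹ᵁ W, σ.preimage_mono hWV, hxW, Subsingleton.elim _ _⟩
  haveI := hT.mono_f
  haveI : IsIso ((Scheme.Modules.pushforward σ).map T.f) :=
    Scheme.Modules.Hom.isIso_iff_isIso_app.2 fun V => (ConcreteCategory.isIso_iff_bijective _).2
      ⟨injective_app_of_mono' T.f (σ ⁻¹ᵁ V), fun z => exists_app_eq_of_exact hT (σ ⁻¹ᵁ V) z (h3 V _)⟩
  haveI : IsIso (ClSub.unitToPush σ) :=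
    Scheme.Modules.Hom.isIso_iff_isIso_app.2 fun V => (ConcreteCategory.isIso_iff_bijective _).2
      (bijective_app hreg i n hi hσ V)
  exact ⟨(Scheme.Modules.pushforward σ).mapIso e₂.symm ≪≫ (asIso ((Scheme.Modules.pushforward σ).map T.f)).symm ≪≫
    (Scheme.Modules.pushforward σ).mapIso (e₁ ≪≫ H10Coh.Tw.commIso _ _ ≪≫ φ) ≪≫ (asIso (ClSub.unitToPush σ)).symm⟩

/-- The standing facts on a smooth variety. -/
theorem setup (k : Type u) [Field k] [Y.Over (Spec (CommRingCat.of k))] [Smooth (Y ↘ Spec (CommRingCat.of k))]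
    [QuasiCompact (Y ↘ Spec (CommRingCat.of k))] (i : S ⟶ Y) (hσ : BlowUp.IsBlowUp σ i.ker) :
    IsNoetherian Y ∧ IsProper σ ∧ ∀ y : Y, IsRegularLocalRing (Y.presheaf.stalk y) := by
  haveI : IsLocallyNoetherian Y := LocallyOfFiniteType.isLocallyNoetherian (Y ↘ Spec (CommRingCat.of k))
  haveI : CompactSpace Y := QuasiCompact.compactSpace_of_compactSpace (Y ↘ Spec (CommRingCat.of k))
  refine ⟨{ }, H26Blow.isProper_of_isBlowUp hσ fun y => ?_, fun y =>
    H19Grp.isRegularLocalRing_stalk_of_smooth (Y ↘ Spec (CommRingCat.of k)) y⟩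
  obtain ⟨U, hU, hyU, -⟩ := exists_isAffineOpen_mem_and_subset (U := ⊤) (x := y) trivial
  haveI : IsNoetherianRing Γ(Y, U) := IsLocallyNoetherian.component_noetherian ⟨U, hU⟩
  exact ⟨⟨U, hU⟩, hyU, IsNoetherian.noetherian _⟩

end Groth.Agent.H11Blow
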